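import Cfsg.Agent.Lib.GW.PartII.BigCentral.TwoClass.Thompson
import Cfsg.Agent.Lib.GW.PartII.BigCentral.OneClass

/-!
# Two classes of involutions in `M`: the ratio of the two pair centralisers

The subgroup of index 2 avoiding `τ` has one class of involutions and the same centralisers, so its
order formula and the Thompson order formula of `M` determine `q / p`: at least 3 if `|S| ≥ 16`, at
least `ι` if `|S| = 8`, where `|C(t)| = 2 ι |C_M(τ)|`.
-/

set_option autoImplicit false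
set_option linter.style.haveILetI false
set_option linter.unusedSectionVars false

namespace Cfsg.Agent.GW.BigCentral

open Subgroup Cfsg
open BSW (mem_cent sq_of_order)

universe u

variable {G : Type u} [Group G] [Finite G]

theorem card_centralizer_subtype_inf {L : Subgroup G} (s : Set L) :
    Nat.card (centralizer s : Subgroup L) =
      Nat.card (L ⊓ centralizer (Subtype.val '' s) : Subgroup G) := by
  have e : centralizer s = (centralizer (Subtype.val '' s)).subgroupOf L := by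
    ext x
    rw [mem_subgroupOf, mem_centralizer_iff, mem_centralizer_iff]
    constructor
    · rintro hx _ ⟨y, hy, rfl⟩
      exact congrArg Subtype.val (hx y hy)
    · exact fun hx y hy => Subtype.ext (hx _ ⟨y, hy, rfl⟩)
  rw [e, ← inf_subgroupOf_left, Nat.card_congr (subgroupOfEquivOfLe inf_le_left).toEquiv]

theorem card_cent_conj (c x : G) : Nat.card (Cent (c * x * c⁻¹)) = Nat.card (Cent x) := by
  have e : Cent (c * x * c⁻¹) = (Cent x).map (MulAut.conj c).toMonoidHom := by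
    ext z
    constructor
    · intro hz
      refine ⟨c⁻¹ * z * c⁻¹⁻¹, mem_cent.2 ?_, by simp [mul_assoc]⟩
      have := commute_conj (mem_cent.1 hz : Commute z (c * x * c⁻¹)) c⁻¹
      rwa [show c⁻¹ * (c * x * c⁻¹) * c⁻¹⁻¹ = x by group] at this
    · rintro ⟨w, hw, rfl⟩
      exact mem_cent.2 (commute_conj (mem_cent.1 hw) c).eq
  rw [e, card_map_of_injective (MulAut.conj c).injective]

namespace Two

variable {S : Sylow 2 G} {t : G} {M : Subgroup G} {σ τ : G} {k : ℕ} (b : Two S t M σ τ k)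
include b

theorem card_cent_tau : Nat.card (Cent τ) = Nat.card (Cent t) := by
  obtain ⟨g, hg⟩ := isConj_iff.1 (b.hyp.isConj_invol b.toBase.torder b.hτo)
  rw [← hg, card_cent_conj]

/-- Elements of `S` centralising a reflection. -/
theorem refl_cent {y : G} (hy : y ∈ (S : Subgroup G)) {i : ℕ} (h : Commute y (σ ^ i * τ)) :
    y = 1 ∨ y = t ∨ y = σ ^ i * τ ∨ y = t * (σ ^ i * τ) := by
  have hb := b.toBase
  set x := σ ^ i * τ with hx
  have hrot : ∀ z ∈ zpowers σ, Commute z x → z = 1 ∨ z = t := by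
    intro z hz hzx
    obtain ⟨j, rfl⟩ := mem_powers_iff_mem_zpowers.2 hz
    have h1 : x * σ ^ j * x⁻¹ = (σ ^ j)⁻¹ := by
      calc x * σ ^ j * x⁻¹ = σ ^ i * (τ * σ ^ j) * τ⁻¹ * (σ ^ i)⁻¹ := by rw [hx]; group
        _ = σ ^ i * (σ ^ j)⁻¹ * (σ ^ i)⁻¹ := by rw [hb.tau_conj_pow]; group
        _ = (σ ^ j)⁻¹ := by rw [((Commute.pow_pow_self σ i j).inv_right).eq, mul_inv_cancel_right]
    rw [← hzx.eq, mul_inv_cancel_right] at h1
    by_cases h2 : σ ^ j = 1
    · exact Or.inl h2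
    · exact Or.inr (eq_of_invol_zpowers hz (b.hJ ▸ pow_mem (mem_zpowers σ) _)
        (BSW.order_of_sq (mul_eq_one_iff_eq_inv.2 h1) h2) hb.torder)
  obtain ⟨j, rfl | rfl⟩ := b.hform y hy
  · rcases hrot _ (pow_mem (mem_zpowers σ) j) h with e | e <;> rw [e] <;> simp
  · have hxx : x * x = 1 := hb.refl_sq i
    have h1 : σ ^ j * τ * x ∈ zpowers σ := by
      rw [hx, show σ ^ j * τ * (σ ^ i * τ) = σ ^ j * (τ * σ ^ i) * τ by group, hb.tau_conj_pow,
        show σ ^ j * ((σ ^ i)⁻¹ * τ) * τ = σ ^ j * (σ ^ i)⁻¹ * (τ * τ) by group,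
        sq_of_order b.hτo, mul_one]
      exact mul_mem (pow_mem (mem_zpowers σ) j) (inv_mem (pow_mem (mem_zpowers σ) i))
    have h2 : σ ^ j * τ = (σ ^ j * τ * x) * x := by rw [mul_assoc _ x x, hxx, mul_one]
    rcases hrot _ h1 (h.mul_left (Commute.refl x)) with e | e <;> rw [e] at h2
    · rw [one_mul] at h2; simp [h2]
    · simp [h2]

theorem four_dvd : 4 ∣ Nat.card (M ⊓ Cent τ : Subgroup G) := by
  have hP := b.pair
  have hle : hP.four ≤ M ⊓ Cent τ :=
    hP.four_le ⟨b.toBase.tM, mem_cent.2 b.t_tau.eq⟩ ⟨b.tauM, mem_cent.2 rfl⟩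
  obtain ⟨V, hV, hVle, -, -⟩ := exists_four_of_commute hP.ha hP.hb hP.comm hP.ne hP.left_mem hP.right_mem
  have := card_dvd_of_le (hVle.trans hle)
  rwa [hV.card_four] at this

/-- `C_M(τ)` has Sylow 2-subgroups of order 4. -/
theorem not_eight_dvd : ¬ 8 ∣ Nat.card (M ⊓ Cent τ : Subgroup G) := by
  haveI : Fact (Nat.Prime 2) := ⟨Nat.prime_two⟩
  intro h8
  obtain ⟨R₀, hR₀⟩ := Sylow.exists_subgroup_card_pow_prime (G := (M ⊓ Cent τ : Subgroup G)) 2 (n := 3)
    (by norm_num; exact h8)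
  set R := R₀.map (M ⊓ Cent τ).subtype with hR
  have hRle : R ≤ M ⊓ Cent τ := map_subtype_le _
  have hRc : Nat.card R = 8 := by
    rw [hR, card_map_of_injective (M ⊓ Cent τ).subtype_injective, hR₀]; norm_num
  have hRp : IsPGroup 2 R := IsPGroup.of_card (n := 3) (by rw [hRc]; norm_num)
  have hQ : IsPGroup 2 (R ⊔ zpowers τ : Subgroup G) :=
    hRp.to_sup_of_normal_left' (IsPGroup.of_card (n := 1) (by rw [Nat.card_zpowers, b.hτo, pow_one]))
      (zpowers_le.2 (centralizer_le_normalizer _ (mem_centralizer_iff.2 fun r hr =>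
        mem_cent.1 (hRle hr).2)))
  obtain ⟨c, hc, hcS⟩ := exists_conj_sylow S b.toBase.hSM
    (sup_le (hRle.trans inf_le_left) (zpowers_le.2 b.tauM)) hQ
  rcases b.toBase.sylow_invol (hcS τ (mem_sup_right (mem_zpowers τ))) (orderOf_conj b.hτo c) with
    e | ⟨i, e⟩
  · exact b.hnot (ConjIn.symm ⟨c, hc, e⟩)
  have hsub : ((R.map (MulAut.conj c).toMonoidHom : Subgroup G) : Set G) ⊆
      ({1, t, σ ^ i * τ, t * (σ ^ i * τ)} : Set G) := by
    rintro _ ⟨r, hr, rfl⟩
    have h := b.refl_cent (hcS r (mem_sup_left hr)) (i := i) (by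
      rw [← e]; exact commute_conj (mem_cent.1 (hRle hr).2) c)
    simpa using h
  have h4 : ({1, t, σ ^ i * τ, t * (σ ^ i * τ)} : Set G).ncard ≤ 4 := by
    refine (Set.ncard_insert_le _ _).trans ?_
    refine Nat.succ_le_succ ((Set.ncard_insert_le _ _).trans ?_)
    refine Nat.succ_le_succ ((Set.ncard_insert_le _ _).trans ?_)
    simp
  have h8' : Nat.card (R.map (MulAut.conj c).toMonoidHom : Subgroup G) = 8 := by
    rw [card_map_of_injective (MulAut.conj c).injective, hRc]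
  have := Set.ncard_le_ncard hsub (Set.toFinite _)
  rw [← Nat.card_coe_set_eq] at this
  change Nat.card (R.map (MulAut.conj c).toMonoidHom : Subgroup G) ≤ _ at this
  omega

/-- The quotient `|C(t)| / |C_M(τ)|`. -/
theorem exists_y : ∃ y : ℕ, Nat.card (Cent t) = Nat.card (M ⊓ Cent τ : Subgroup G) * y ∧
    2 ^ k ∣ y ∧ ¬ 2 ^ (k + 1) ∣ y := by
  haveI : Fact (Nat.Prime 2) := ⟨Nat.prime_two⟩
  obtain ⟨y, hy⟩ : Nat.card (M ⊓ Cent τ : Subgroup G) ∣ Nat.card (Cent t) :=
    b.card_cent_tau ▸ card_dvd_of_le inf_le_right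
  obtain ⟨c', hc'⟩ := b.four_dvd
  have hodd : Nat.Coprime (2 ^ k) c' := (Nat.coprime_two_left.2 (Nat.odd_iff.2 (by
    have := b.not_eight_dvd
    rw [hc'] at this
    by_contra h
    exact this (Dvd.intro (c' / 2) (by omega))))).pow_left k
  refine ⟨y, hy, ?_, ?_⟩
  · have h := card_dvd_of_le b.hSC
    rw [b.hcard, hy, hc', show 2 ^ (k + 2) = 4 * 2 ^ k by ring, mul_assoc] at h
    exact hodd.dvd_of_dvd_mul_left (Nat.dvd_of_mul_dvd_mul_left (by norm_num) h)
  · rintro ⟨z, rfl⟩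
    have hN : 2 ^ (k + 3) ∣ Nat.card G := Dvd.dvd.trans
      ⟨c' * z, by rw [hy, hc']; ring⟩ (Cent t).card_subgroup_dvd_card
    have := (S.card_eq_multiplicity).symm.trans b.hcard
    have hf := (Nat.pow_right_injective le_rfl) this
    have := (Nat.Prime.pow_dvd_iff_le_factorization Nat.prime_two Nat.card_pos.ne').1 hN
    omega

/-- A subgroup of index 2 avoiding `τ`, with its Sylow 2-subgroup. -/
theorem exists_half_sylow : ∃ L, Half M L ∧ τ ∉ L ∧ t ∈ L ∧ σ * τ ∈ L ∧ σ ∉ L ∧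
    ∃ P : Sylow 2 L, (P : Subgroup L).map L.subtype = closure ({σ * σ, σ * τ} : Set G) ∧
      Nat.card (P : Subgroup L) = 2 ^ (k + 1) := by
  haveI : Fact (Nat.Prime 2) := ⟨Nat.prime_two⟩
  have hb := b.toBase
  obtain ⟨L, hl, hτL⟩ := hb.exists_half b.hnot
  have hσM : σ ∈ M := hb.hSM b.hσ
  have htL : t ∈ L := hb.half_pow ▸ hl.sq (pow_mem hσM _)
  have hστL : σ * τ ∈ L := by
    obtain ⟨m, hm, e⟩ := b.hone
    exact e ▸ hl.conj m hm t htL
  have hσL : σ ∉ L := fun h => hτL (by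
    have := mul_mem (inv_mem h) hστL
    rwa [inv_mul_cancel_left] at this)
  have hcl : closure ({σ * σ, σ * τ} : Set G) = L ⊓ (S : Subgroup G) := by
    refine le_antisymm ((closure_le _).2 ?_) ?_
    · rintro x (rfl | rfl)
      · exact ⟨hl.sq hσM, mul_mem b.hσ b.hσ⟩
      · exact ⟨hστL, mul_mem b.hσ b.hτ⟩
    · rintro x ⟨hxL, hxS⟩
      have h1 : σ * σ ∈ closure ({σ * σ, σ * τ} : Set G) := Subgroup.subset_closure (Set.mem_insert _ _)
      have hsqL : ∀ m : ℕ, σ ^ (2 * m) ∈ L := fun m => by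
        rw [two_mul, pow_add]; exact hl.sq (pow_mem hσM m)
      have h2 : ∀ m : ℕ, σ ^ (2 * m) ∈ closure ({σ * σ, σ * τ} : Set G) := fun m => by
        rw [pow_mul, pow_two]; exact pow_mem h1 m
      obtain ⟨i, rfl | rfl⟩ := b.hform x hxS <;> rcases Nat.even_or_odd' i with ⟨m, rfl | rfl⟩
      · exact h2 m
      · rw [pow_succ] at hxL
        exact absurd ((L.mul_mem_cancel_left (hsqL m)).1 hxL) hσL
      · exact absurd ((L.mul_mem_cancel_left (hsqL m)).1 hxL) hτL
      · rw [pow_succ, mul_assoc]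
        exact mul_mem (h2 m) (Subgroup.subset_closure (Set.mem_insert_of_mem _ rfl))
  set P₀ := (L ⊓ (S : Subgroup G)).subgroupOf L with hP₀
  have hcard : 2 * Nat.card (L ⊓ (S : Subgroup G) : Subgroup G) = 2 ^ (k + 2) :=
    (hl.card_inf hb.hSM b.hτ hτL).trans b.hcard
  have hP₀c : Nat.card P₀ = 2 ^ (k + 1) := by
    rw [hP₀, Nat.card_congr (subgroupOfEquivOfLe (inf_le_left : L ⊓ (S : Subgroup G) ≤ L)).toEquiv]
    rw [pow_succ' 2 (k + 1)] at hcard
    omega
  have hidx : ¬ 2 ∣ P₀.index := by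
    intro h
    have h1 := P₀.card_mul_index
    rw [hP₀c] at h1
    have h2 : 2 * Nat.card (L ⊓ M : Subgroup G) = Nat.card M := hl.card_inf le_rfl b.tauM hτL
    rw [inf_eq_left.2 hl.le, ← h1] at h2
    obtain ⟨z, hz⟩ := h
    have h3 : 2 ^ (k + 3) ∣ Nat.card G := Dvd.dvd.trans ⟨z, by rw [← h2, hz]; ring⟩
      M.card_subgroup_dvd_card
    have hf := (Nat.pow_right_injective le_rfl) ((S.card_eq_multiplicity).symm.trans b.hcard)
    have := (Nat.Prime.pow_dvd_iff_le_factorization Nat.prime_two Nat.card_pos.ne').1 h3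
    omega
  refine ⟨L, hl, hτL, htL, hστL, hσL, (IsPGroup.of_card hP₀c).toSylow hidx, ?_, ?_⟩
  · rw [IsPGroup.toSylow_coe, hP₀, map_subgroupOf_eq_of_le inf_le_left, hcl]
  · rw [IsPGroup.toSylow_coe, hP₀c]

/-- In the half all involutions of its Sylow subgroup are conjugate to `t`. -/
theorem conj_odd_refl {L : Subgroup G} (hl : Half M L) (hτL : τ ∉ L) (m : ℕ) :
    ConjIn L t (σ ^ (2 * m + 1) * τ) := by
  have hb := b.toBase
  obtain ⟨g, hg, hge⟩ := b.hone
  obtain ⟨g', hg', hgM, hge'⟩ : ∃ g', g' ∈ L ∧ g' ∈ M ∧ g' * t * g'⁻¹ = σ * τ := by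
    by_cases h : g ∈ L
    · exact ⟨g, h, hg, hge⟩
    · refine ⟨g * τ, hl.mul g hg τ b.tauM h hτL, mul_mem hg b.tauM, ?_⟩
      rw [show g * τ * t * (g * τ)⁻¹ = g * (τ * t) * τ⁻¹ * g⁻¹ by group, b.t_tau.symm.eq,
        mul_assoc g, mul_inv_cancel_right, hge]
  have hsM : σ ^ m ∈ M := hb.hSM (pow_mem b.hσ m)
  refine ⟨σ ^ m * g' * (σ ^ m)⁻¹, hl.conj _ hsM _ hg', ?_⟩
  have hst : (σ ^ m)⁻¹ * t * σ ^ m = t := by
    rw [mul_assoc, ← b.hJ, (Commute.pow_pow_self σ _ m).eq, inv_mul_cancel_left]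
  calc σ ^ m * g' * (σ ^ m)⁻¹ * t * (σ ^ m * g' * (σ ^ m)⁻¹)⁻¹
      = σ ^ m * (g' * ((σ ^ m)⁻¹ * t * σ ^ m) * g'⁻¹) * (σ ^ m)⁻¹ := by group
    _ = σ ^ (2 * m + 1) * τ := by rw [hst, hge', hb.conj_sigma_tau]

/-- The centraliser of `t` and a conjugate of `σ τ` lies in the half. -/
theorem cent_pair_le {L : Subgroup G} (hl : Half M L) {x : G} (hx2 : orderOf x = 2) (hxt : x ≠ t)
    (hcx : Commute t x) (htL : t ∈ L) (hxL : x ∈ L) : centralizer ({t, x} : Set G) ≤ L := by
  intro z hz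
  rw [centralizer_pair_eq, mem_inf, mem_cent, mem_cent] at hz
  have hzM : z ∈ M := b.hCM (mem_cent.2 hz.1)
  by_contra hzL
  obtain ⟨e, m, hm, hzo⟩ := Nat.exists_eq_two_pow_mul_odd (orderOf_pos z).ne'
  have hP : Pair t x := ⟨b.toBase.torder, hx2, hcx.eq, hxt.symm⟩
  obtain ⟨V, hV, hVle, htV, hxV⟩ :=
    exists_four_of_commute hP.ha hP.hb hP.comm hP.ne hP.left_mem hP.right_mem
  obtain ⟨n, hn, ⟨φ⟩⟩ := b.hyp.dihedral
  have hw : z ^ m ∈ V := by
    refine (subDihedral_of_sylow S hn φ).mem_four V ?_ (mem_centralizer_iff.2 fun v hv => ?_)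
    · refine IsPGroup.of_card (n := e) ?_
      rw [Nat.card_zpowers, orderOf_pow_of_dvd hm.pos.ne' (hzo ▸ dvd_mul_left _ _), hzo,
        Nat.mul_div_cancel _ hm.pos]
    · refine ((Commute.pow_left ?_ m).eq).symm
      rcases hVle hv with rfl | rfl | rfl | rfl
      · exact Commute.one_right z
      · exact hz.1
      · exact hz.2
      · exact (show Commute z t from hz.1).mul_right hz.2
  obtain ⟨j, rfl⟩ := hm
  have h1 : z ^ (2 * j + 1) ∈ L := hP.four_le htL hxL (hVle hw)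
  rw [pow_succ, pow_mul, pow_two] at h1
  exact hzL ((L.mul_mem_cancel_left (pow_mem (hl.sq hzM) j)).1 h1)

/-- `|S| ≥ 16`: `q ≥ 3 p`. -/
theorem ratio_large (hk : 2 ≤ k) :
    3 * Nat.card (centralizer ({t, τ} : Set G)) ≤ Nat.card (centralizer ({t, σ * τ} : Set G)) := by
  have hb := b.toBase
  obtain ⟨L, hl, hτL, htL, hστL, hσL, P, hPmap, -⟩ := b.exists_half_sylow
  have hσM : σ ∈ M := hb.hSM b.hσ
  set s : L := ⟨σ * σ, hl.sq hσM⟩ with hs
  set w : L := ⟨σ * τ, hστL⟩ with hw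
  have hgen : closure ({s, w} : Set L) = (P : Subgroup L) := by
    apply map_injective L.subtype_injective
    rw [MonoidHom.map_closure, Set.image_pair, hPmap]
    rfl
  have hmem : s ∈ (P : Subgroup L) ∧ w ∈ (P : Subgroup L) :=
    ⟨hgen ▸ Subgroup.subset_closure (Set.mem_insert _ _),
      hgen ▸ Subgroup.subset_closure (Set.mem_insert_of_mem _ rfl)⟩
  have hpow : ((s ^ 2 ^ (k - 1) : L) : G) = t := by
    rw [SubgroupClass.coe_pow]
    show (σ * σ) ^ 2 ^ (k - 1) = t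
    rw [← pow_two, ← pow_mul, ← pow_succ', show k - 1 + 1 = k by omega, b.hJ]
  have hsw : ((s * w : L) : G) = σ ^ 3 * τ := by
    show σ * σ * (σ * τ) = σ ^ 3 * τ
    rw [pow_succ, pow_two, mul_assoc _ σ τ]
  have hodd : ∀ m : ℕ, ∀ z : L, (z : G) = σ ^ (2 * m + 1) * τ → IsConj (s ^ 2 ^ (k - 1)) z := by
    intro m z hz
    refine ConjIn.isConj ?_
    rw [hpow, hz]
    exact b.conj_odd_refl hl hτL m
  obtain ⟨a, ha8, ha1, he⟩ := order_int_of_gens (k := k - 1) (by omega) P (σ := s) (τ := w)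
    hmem.1 hmem.2
    (by
      rw [← Subgroup.orderOf_coe]
      show orderOf (σ * σ) = 2 ^ (k - 1 + 1)
      rw [← pow_two, orderOf_pow' _ two_ne_zero, b.hσo, show k - 1 + 1 = k by omega,
        Nat.gcd_eq_right (dvd_pow_self 2 (by omega)), pow_succ, Nat.mul_div_cancel _ (by norm_num)])
    (by rw [← Subgroup.orderOf_coe]; show orderOf (σ * τ) = 2; simpa using hb.refl_order 1)
    (Subtype.ext (by
      show σ * τ * (σ * σ) * (σ * τ)⁻¹ = (σ * σ)⁻¹
      rw [show σ * τ * (σ * σ) * (σ * τ)⁻¹ = σ * ((τ * σ * τ⁻¹) * (τ * σ * τ⁻¹)) * σ⁻¹ by group, b.hrel]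
      group))
    hgen (hodd 0 w (by rw [Nat.mul_zero, zero_add, pow_one]))
    (hodd 1 _ (by rw [hsw]))
  rw [card_centralizer_subtype_inf, card_centralizer_subtype_inf, card_centralizer_subtype_inf,
    Set.image_pair, Set.image_pair, Set.image_singleton, hpow, hsw, show (w : G) = σ * τ from rfl] at he
  have h3 : σ ^ 3 * τ = σ * (σ * τ) * σ⁻¹ := by
    rw [show σ * (σ * τ) * σ⁻¹ = σ ^ 1 * (σ * τ) * (σ ^ 1)⁻¹ by rw [pow_one], hb.conj_sigma_tau]
  have hle1 : centralizer ({t, σ * τ} : Set G) ≤ L :=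
    b.cent_pair_le hl (by simpa using hb.refl_order 1) (by simpa using hb.refl_ne 1)
      (mem_cent.1 (b.hSC (mul_mem b.hσ b.hτ))).symm htL hστL
  have hle3 : centralizer ({t, σ ^ 3 * τ} : Set G) ≤ L :=
    b.cent_pair_le hl (hb.refl_order 3) (hb.refl_ne 3)
      (mem_cent.1 (b.hSC (hb.refl_mem 3))).symm htL (h3 ▸ hl.conj σ hσM _ hστL)
  have hq3 : Nat.card (centralizer ({t, σ ^ 3 * τ} : Set G)) =
      Nat.card (centralizer ({t, σ * τ} : Set G)) := by
    have e : centralizer ({t, σ ^ 3 * τ} : Set G) =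
        (centralizer ({t, σ * τ} : Set G)).map (MulAut.conj σ).toMonoidHom := by
      ext z
      rw [centralizer_pair_eq, centralizer_pair_eq, h3]
      have ht : σ * t * σ⁻¹ = t := by rw [← b.hJ, (Commute.self_pow σ _).eq, mul_inv_cancel_right]
      constructor
      · rintro ⟨h1, h2⟩
        refine ⟨σ⁻¹ * z * σ⁻¹⁻¹, ⟨mem_cent.2 ?_, mem_cent.2 ?_⟩, by simp [mul_assoc]⟩
        · have := commute_conj (mem_cent.1 h1 : Commute z t) σ⁻¹
          rwa [show σ⁻¹ * t * σ⁻¹⁻¹ = t by conv_lhs => rw [← ht]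
                                           group] at this
        · have := commute_conj (mem_cent.1 h2 : Commute z _) σ⁻¹
          rwa [show σ⁻¹ * (σ * (σ * τ) * σ⁻¹) * σ⁻¹⁻¹ = σ * τ by group] at this
      · rintro ⟨v, ⟨h1, h2⟩, rfl⟩
        refine ⟨mem_cent.2 ?_, mem_cent.2 (commute_conj (mem_cent.1 h2) σ).eq⟩
        have := commute_conj (mem_cent.1 h1 : Commute v t) σ
        rwa [ht] at this
    rw [e, card_map_of_injective (MulAut.conj σ).injective]
  rw [inf_eq_right.2 hle1, inf_eq_right.2 hle3, hq3] at he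
  have hLc := hl.card_inf le_rfl b.tauM hτL
  rw [inf_eq_left.2 hl.le] at hLc
  have hCc := hl.card_inf b.hCM (b.hSC b.hτ) hτL
  obtain ⟨y, hy, hy2, -⟩ := b.exists_y
  have hth := b.thompson
  have hy4 : 4 ≤ y := by
    refine Nat.le_of_dvd (Nat.pos_of_ne_zero fun h0 => ?_) (Dvd.dvd.trans (pow_dvd_pow 2 hk) hy2)
    rw [h0, mul_zero] at hy
    exact (Nat.card_pos (α := Cent t)).ne' hy
  set p := Nat.card (centralizer ({t, τ} : Set G))
  set q := Nat.card (centralizer ({t, σ * τ} : Set G))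
  set C' := Nat.card (M ⊓ Cent τ : Subgroup G)
  set C₂ := Nat.card (L ⊓ Cent t : Subgroup G)
  have hC0 : (0 : ℤ) < Nat.card (Cent t) := Int.natCast_pos.2 Nat.card_pos
  have hLc' : (2 : ℤ) * Nat.card L = Nat.card M := by exact_mod_cast hLc
  have hCc' : (2 : ℤ) * C₂ = Nat.card (Cent t) := by exact_mod_cast hCc
  have hy' : (Nat.card (Cent t) : ℤ) = C' * y := by exact_mod_cast hy
  have hp : (0 : ℤ) < p := Int.natCast_pos.2 Nat.card_pos
  have hq : (0 : ℤ) < q := Int.natCast_pos.2 Nat.card_pos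
  have hC' : (0 : ℤ) < C' := Int.natCast_pos.2 Nat.card_pos
  set C : ℤ := (Nat.card (Cent t) : ℤ)
  have e1 : (Nat.card M : ℤ) * (q : ℤ) ^ 2 * (a - 1) ^ 2 = 2 * (a * (a + 1)) * C ^ 3 := by
    apply mul_right_cancel₀ (pow_ne_zero 2 hq.ne')
    rw [← hLc', ← hCc']
    linear_combination 2 * he
  have e2 : (Nat.card M : ℤ) * (p : ℤ) ^ 2 * (q : ℤ) ^ 2 =
      C * ((q : ℤ) * C' * ((q : ℤ) * C' + p * C)) := by
    linear_combination (q : ℤ) * hth
  set X := (q : ℤ) * C' with hX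
  set Y := (p : ℤ) * C with hY
  have e3 : X * (X + Y) * (a - 1) ^ 2 = 2 * (a * (a + 1)) * Y ^ 2 := by
    apply mul_left_cancel₀ hC0.ne'
    linear_combination (p : ℤ) ^ 2 * e1 - (a - 1) ^ 2 * e2
  have hXpos : 0 < X := mul_pos hq hC'
  have hYpos : 0 < Y := mul_pos hp hC0
  have e4 : (X * (a - 1) - Y * (a + 1)) * (X * (a - 1) + 2 * a * Y) = 0 := by linear_combination e3
  have ha7 : 9 ≤ a ∨ a ≤ -7 := by omega
  have e5 : X * (a - 1) = Y * (a + 1) := by
    rcases mul_eq_zero.1 e4 with h | h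
    · linarith
    · exfalso
      rcases ha7 with h' | h'
      · have := mul_pos hXpos (show 0 < a - 1 by omega)
        have := mul_pos (show 0 < 2 * a by omega) hYpos
        linarith
      · have := mul_neg_of_pos_of_neg hXpos (show a - 1 < 0 by omega)
        have := mul_neg_of_neg_of_pos (show 2 * a < 0 by omega) hYpos
        linarith
  have h4 : 3 * Y ≤ 4 * X := by
    rcases ha7 with h' | h'
    · have h6 : Y * (a - 1) ≤ X * (a - 1) := by
        rw [e5]; exact mul_le_mul_of_nonneg_left (by omega) hYpos.le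
      have := le_of_mul_le_mul_right h6 (by omega)
      linarith
    · have h6 : 3 * Y * (1 - a) ≤ 4 * X * (1 - a) := by
        rw [show 4 * X * (1 - a) = Y * (-4 * a - 4) by linear_combination -4 * e5,
          show 3 * Y * (1 - a) = Y * (3 - 3 * a) by ring]
        exact mul_le_mul_of_nonneg_left (by omega) hYpos.le
      exact le_of_mul_le_mul_right h6 (by omega)
  have h5 : (3 : ℤ) * p * y ≤ 4 * q := by
    refine le_of_mul_le_mul_right ?_ hC'
    rw [hX, hY, hy'] at h4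
    linarith
  have hy4' : (4 : ℤ) ≤ y := by exact_mod_cast hy4
  have h6 := mul_le_mul_of_nonneg_left hy4' (show (0 : ℤ) ≤ 3 * p by positivity)
  exact_mod_cast (show (3 : ℤ) * p ≤ q by linarith)

/-- `|S| = 8`: `q ≥ ι p`. -/
theorem ratio_small (hk : k = 1) {ι : ℕ}
    (hι : Nat.card (Cent t) = Nat.card (M ⊓ Cent τ : Subgroup G) * (2 * ι)) :
    ι * Nat.card (centralizer ({t, τ} : Set G)) ≤ Nat.card (centralizer ({t, σ * τ} : Set G)) := by
  haveI : Fact (Nat.Prime 2) := ⟨Nat.prime_two⟩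
  have hb := b.toBase
  obtain ⟨L, hl, hτL, htL, hστL, hσL, P, hPmap, hPc⟩ := b.exists_half_sylow
  have hσσ : σ * σ = t := by
    have h := b.hJ
    rw [hk, pow_one, pow_two] at h
    exact h
  rw [hσσ] at hPmap
  rw [hk] at hPc
  set w : L := ⟨σ * τ, hστL⟩ with hw
  set T : L := ⟨t, htL⟩ with hT
  have hgen : closure ({T, w} : Set L) = (P : Subgroup L) := by
    apply map_injective L.subtype_injective
    rw [MonoidHom.map_closure, Set.image_pair, hPmap]
    rfl
  have hστ2 : orderOf (σ * τ) = 2 := by simpa using hb.refl_order 1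
  have hστt : σ * τ ≠ t := by simpa using hb.refl_ne 1
  have hTw : Commute t (σ * τ) := (mem_cent.1 (b.hSC (mul_mem b.hσ b.hτ))).symm
  have hP : Pair T w := ⟨by rw [hT, Subgroup.orderOf_mk, hb.torder],
    by rw [hw, Subgroup.orderOf_mk, hστ2], Subtype.ext hTw.eq,
    fun h => hστt (congrArg Subtype.val h).symm⟩
  have hfour : (P : Subgroup L) ≤ hP.four :=
    hgen ▸ (closure_le _).2 (by
      rintro x (rfl | rfl)
      · exact hP.left_mem
      · exact hP.right_mem)
  haveI hK : IsKleinFour (P : Subgroup L) := by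
    haveI : Nontrivial (P : Subgroup L) := Finite.one_lt_card_iff_nontrivial.mp (by rw [hPc]; norm_num)
    refine ⟨hPc, (Monoid.exponent_eq_prime_iff Nat.prime_two).mpr fun v hv => ?_⟩
    refine orderOf_eq_prime (Subtype.ext ?_) hv
    rw [SubgroupClass.coe_pow, pow_two, Subgroup.coe_one]
    rcases hfour v.2 with e | e | e | e <;> rw [e]
    · exact one_mul 1
    · exact sq_of_order hP.ha
    · exact sq_of_order hP.hb
    · exact hP.mul_sq
  have hTc : ∀ x : L, orderOf x = 2 → IsConj T x := by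
    intro x hx
    obtain ⟨R, hR⟩ := (IsPGroup.of_card (n := 1) (by rw [Nat.card_zpowers, hx, pow_one]) :
      IsPGroup 2 (zpowers x)).exists_le_sylow
    obtain ⟨c, hc⟩ := MulAction.exists_smul_eq L R P
    have hcx : c * x * c⁻¹ ∈ (P : Subgroup L) := by
      rw [← hc]
      exact Subgroup.smul_mem_pointwise_smul x (MulAut.conj c) (R : Subgroup L) (hR (mem_zpowers x))
    refine IsConj.trans ?_ (isConj_iff.2 ⟨c⁻¹, by group⟩ : IsConj (c * x * c⁻¹) x)
    rcases hfour hcx with e | e | e | e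
    · exact absurd (conj_eq_one_iff.1 e) (BSW.ne_one_of_order hx)
    · exact e ▸ IsConj.refl T
    · rw [e]
      refine ConjIn.isConj (a := T) (b := w) ?_
      have := b.conj_odd_refl hl hτL 0
      rwa [Nat.mul_zero, zero_add, pow_one] at this
    · rw [e]
      refine ConjIn.isConj (a := T) (b := T * w) ?_
      have := b.conj_odd_refl hl hτL 1
      rw [show (T * w : L).1 = σ ^ (2 * 1 + 1) * τ by
        show t * (σ * τ) = _
        rw [← hσσ, show 2 * 1 + 1 = 2 + 1 from rfl, pow_succ, pow_two, mul_assoc (σ * σ) σ τ]]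
      exact this
  have hnc : ¬ HasNormalPComplement 2 L := by
    rintro ⟨Q, N, hN, hc⟩
    haveI := hN
    have hNodd : Odd (Nat.card N) := Nat.coprime_two_right.1
      (Transfer.coprime_card_of_isComplement'_sylow Q hc)
    obtain ⟨g, hg⟩ := isConj_iff.1 (hTc w hP.hb)
    let π := QuotientGroup.mk' N
    haveI : IsMulCommutative (L ⧸ N) := by
      haveI : IsMulCommutative (P : Subgroup L) := IsKleinFour.isMulCommutative
      refine isMulCommutative_iff.2 ?_
      intro u v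
      obtain ⟨u, rfl⟩ := QuotientGroup.mk'_surjective N u
      obtain ⟨v, rfl⟩ := QuotientGroup.mk'_surjective N v
      obtain ⟨⟨⟨n₁, hn₁⟩, ⟨q₁, hq₁⟩⟩, e₁⟩ := hc.2 u
      obtain ⟨⟨⟨n₂, hn₂⟩, ⟨q₂, hq₂⟩⟩, e₂⟩ := hc.2 v
      have hk1 : π n₁ = 1 := (QuotientGroup.eq_one_iff _).2 hn₁
      have hk2 : π n₂ = 1 := (QuotientGroup.eq_one_iff _).2 hn₂
      have h' : q₁ * q₂ = q₂ * q₁ := by
        have h := (P.equiv Q).symm.injective
          (a₁ := (⟨q₁, hq₁⟩ : (Q : Subgroup L)) * ⟨q₂, hq₂⟩) (a₂ := ⟨q₂, hq₂⟩ * ⟨q₁, hq₁⟩)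
          (by rw [map_mul, map_mul]; exact IsMulCommutative.is_comm.comm _ _)
        exact congrArg Subtype.val h
      show π u * π v = π v * π u
      rw [← e₁, ← e₂]
      simp only [map_mul, hk1, hk2, one_mul]
      rw [← map_mul, ← map_mul, h']
    have hTN : T⁻¹ * w ∈ N := by
      rw [← QuotientGroup.eq]
      show π T = π w
      rw [← hg, map_mul, map_mul, map_inv, IsMulCommutative.is_comm.comm (π g) (π T),
        mul_inv_cancel_right]
    rw [BSW.inv_of_order hP.ha] at hTN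
    have h1 := hNodd.of_dvd_nat (Subgroup.orderOf_dvd_natCard N hTN)
    rw [hP.order_mul] at h1
    exact absurd h1 (by decide)
  obtain ⟨x, y, z, ε, hx4, hz4, hy, hr, -, -, he⟩ :=
    exists_klein_int P hK (fun u v hu hv => (hTc u hu).symm.trans (hTc v hv)) hnc
      (J := T) (hgen ▸ Subgroup.subset_closure (Set.mem_insert _ _)) hP.ha
  have hcP : Nat.card (centralizer ((P : Subgroup L) : Set L)) =
      Nat.card (centralizer ({t, σ * τ} : Set G)) := by
    rw [← hgen, centralizer_closure, card_centralizer_subtype_inf, Set.image_pair,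
      inf_eq_right.2 (b.cent_pair_le hl hστ2 hστt hTw htL hστL)]
  rw [hcP, card_centralizer_subtype_inf, Set.image_singleton] at he
  obtain ⟨hD, hL⟩ := alpha_lower (x := x) (y := y) (z := z) (ε := ε) ⟨by omega, by omega⟩
    (by rcases hy with ⟨rfl, h⟩ | ⟨rfl, h⟩
        · exact Or.inl ⟨rfl, by omega, by omega⟩
        · exact Or.inr ⟨rfl, by omega⟩) (by omega) hr
  have hLc := hl.card_inf le_rfl b.tauM hτL
  rw [inf_eq_left.2 hl.le] at hLc
  have hCc := hl.card_inf b.hCM (b.hSC b.hτ) hτL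
  have hth := b.thompson
  set p := Nat.card (centralizer ({t, τ} : Set G))
  set q := Nat.card (centralizer ({t, σ * τ} : Set G))
  set C' := Nat.card (M ⊓ Cent τ : Subgroup G)
  change (Nat.card L : ℤ) * _ * (q : ℤ) ^ 2 = _ * (Nat.card (L ⊓ Cent t : Subgroup G) : ℤ) ^ 3 at he
  set C₂ := Nat.card (L ⊓ Cent t : Subgroup G)
  have hC0 : (0 : ℤ) < Nat.card (Cent t) := Int.natCast_pos.2 Nat.card_pos
  have hLc' : (2 : ℤ) * Nat.card L = Nat.card M := by exact_mod_cast hLc
  have hCc' : (2 : ℤ) * C₂ = Nat.card (Cent t) := by exact_mod_cast hCc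
  have hι' : (Nat.card (Cent t) : ℤ) = C' * (2 * ι) := by exact_mod_cast hι
  have hp : (0 : ℤ) < p := Int.natCast_pos.2 Nat.card_pos
  have hq : (0 : ℤ) < q := Int.natCast_pos.2 Nat.card_pos
  have hC' : (0 : ℤ) < C' := Int.natCast_pos.2 Nat.card_pos
  set C : ℤ := (Nat.card (Cent t) : ℤ)
  set D : ℤ := ((x : ℤ) + 1) * ((y : ℤ) + ε) * ((z : ℤ) - 1)
  set E : ℤ := (x : ℤ) * y * z
  have e1 : (Nat.card M : ℤ) * (q : ℤ) ^ 2 * D = 2 * E * C ^ 3 := by
    rw [← hLc', ← hCc']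
    linear_combination 2 * he
  have e2 : (Nat.card M : ℤ) * (p : ℤ) ^ 2 * (q : ℤ) ^ 2 =
      C * ((q : ℤ) * C' * ((q : ℤ) * C' + p * C)) := by
    linear_combination (q : ℤ) * hth
  set X := (q : ℤ) * C' with hX
  set Y := (p : ℤ) * C with hY
  have e3 : X * (X + Y) * D = 2 * E * Y ^ 2 := by
    apply mul_left_cancel₀ hC0.ne'
    linear_combination (p : ℤ) ^ 2 * e1 - D * e2
  have hXpos : 0 < X := mul_pos hq hC'
  have hYpos : 0 < Y := mul_pos hp hC0
  have hE : 0 < E := by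
    have : 0 < x ∧ 0 < y ∧ 0 < z := by rcases hy with ⟨-, h⟩ | ⟨-, h⟩ <;> omega
    obtain ⟨h1, h2, h3⟩ := this
    positivity
  have hD0 : 0 < D := by
    refine hD.lt_of_ne' fun h => ?_
    have h' : X * (X + Y) * D = 0 := by rw [show D = 0 from h, mul_zero]
    rw [e3] at h'
    exact (by positivity : (0 : ℤ) < 2 * E * Y ^ 2).ne' h'
  have h6 : 3 * (Y * Y) ≤ 4 * (X * (X + Y)) := by
    refine le_of_mul_le_mul_right ?_ hD0
    calc 3 * (Y * Y) * D = Y * Y * (3 * D) := by ring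
      _ ≤ Y * Y * (8 * E) := mul_le_mul_of_nonneg_left hL (mul_self_nonneg Y)
      _ = 4 * (X * (X + Y)) * D := by linear_combination -4 * e3
  have h7 : Y ≤ 2 * X := by
    by_contra hlt
    push Not at hlt
    have h8 : 2 * X * (2 * X + 2 * Y) < Y * (3 * Y) := mul_lt_mul'' hlt (by linarith)
      (by linarith) (by linarith)
    linarith
  have h8 : (ι : ℤ) * p ≤ q := by
    refine le_of_mul_le_mul_right ?_ hC'
    rw [hX, hY, hι'] at h7
    linarith
  exact_mod_cast h8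

end Two

end Cfsg.Agent.GW.BigCentral
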