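import Cfsg.Agent.Lib.GW.PartII.BigCentral.Basic
import Cfsg.Agent.Lib.GW.KType

/-!
# Involutions of a subgroup containing a dihedral Sylow 2-subgroup

`Base S t M σ τ k`: `S = ⟨σ, τ⟩ ≤ M` dihedral of order `2 ^ (k + 2)`, `k ≥ 1`, central involution `t`.
`t` is conjugate in `M` to both, to one, or to none of `τ`, `σ τ`; in the last case `M` has a normal
2-complement.  For a Klein four group there is one class unless `M` has a normal 2-complement.
-/

set_option autoImplicit false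
set_option linter.style.haveILetI false
set_option linter.unusedSectionVars false

namespace Cfsg.Agent.GW.BigCentral

open Subgroup Cfsg
open scoped Pointwise

universe u

variable {G : Type u} [Group G]

/-- Conjugacy by an element of `M`. -/
def ConjIn (M : Subgroup G) (x y : G) : Prop := ∃ m ∈ M, m * x * m⁻¹ = y

namespace ConjIn

variable {M : Subgroup G} {x y z : G}

theorem refl (M : Subgroup G) (x : G) : ConjIn M x x := ⟨1, M.one_mem, by group⟩

theorem symm (h : ConjIn M x y) : ConjIn M y x := by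
  obtain ⟨m, hm, rfl⟩ := h
  exact ⟨m⁻¹, inv_mem hm, by group⟩

theorem trans (h : ConjIn M x y) (h' : ConjIn M y z) : ConjIn M x z := by
  obtain ⟨m, hm, rfl⟩ := h
  obtain ⟨m', hm', rfl⟩ := h'
  exact ⟨m' * m, mul_mem hm' hm, by group⟩

theorem mono {M' : Subgroup G} (h : ConjIn M x y) (hle : M ≤ M') : ConjIn M' x y := by
  obtain ⟨m, hm, e⟩ := h
  exact ⟨m, hle hm, e⟩

theorem isConj {a b : M} (h : ConjIn M (a : G) (b : G)) : IsConj a b := by
  obtain ⟨m, hm, e⟩ := h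
  exact isConj_iff.2 ⟨⟨m, hm⟩, Subtype.ext e⟩

theorem of_isConj {a b : M} (h : IsConj a b) : ConjIn M (a : G) (b : G) := by
  obtain ⟨c, hc⟩ := isConj_iff.1 h
  exact ⟨c, c.2, congrArg Subtype.val hc⟩

end ConjIn

/-- A subgroup of index 2 of `M`. -/
structure Half (M L : Subgroup G) : Prop where
  le : L ≤ M
  conj : ∀ g ∈ M, ∀ x ∈ L, g * x * g⁻¹ ∈ L
  mul : ∀ x ∈ M, ∀ y ∈ M, x ∉ L → y ∉ L → x * y ∈ L

namespace Half

variable {M L : Subgroup G} (hl : Half M L)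
include hl

theorem sq {x : G} (hx : x ∈ M) : x * x ∈ L := by
  by_cases h : x ∈ L
  · exact mul_mem h h
  · exact hl.mul x hx x hx h h

theorem mem_of_odd {x : G} (hx : x ∈ M) (ho : Odd (orderOf x)) : x ∈ L := by
  obtain ⟨j, hj⟩ := ho
  have h : (x * x) ^ (j + 1) = x := by
    rw [← pow_two, ← pow_mul, show 2 * (j + 1) = orderOf x + 1 by omega, pow_succ,
      pow_orderOf_eq_one, one_mul]
  exact h ▸ pow_mem (hl.sq hx) _

theorem card_inf [Finite G] {H : Subgroup G} (hH : H ≤ M) {a : G} (ha : a ∈ H) (haL : a ∉ L) :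
    2 * Nat.card (L ⊓ H : Subgroup G) = Nat.card H := by
  have hi : (L ⊓ H).relIndex H = 2 := by
    rw [relIndex_eq_two_iff]
    refine ⟨a, ha, fun b hb => ?_⟩
    by_cases hbL : b ∈ L
    · exact Or.inr ⟨⟨hbL, hb⟩, fun h => haL ((L.mul_mem_cancel_left hbL).1 h.1)⟩
    · exact Or.inl ⟨⟨hl.mul b (hH hb) a (hH ha) hbL haL, mul_mem hb ha⟩, fun h => hbL h.1⟩
  have h := ((L ⊓ H).subgroupOf H).card_mul_index
  rw [Nat.card_congr (subgroupOfEquivOfLe (inf_le_right : L ⊓ H ≤ H)).toEquiv] at h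
  change Nat.card (L ⊓ H : Subgroup G) * (L ⊓ H).relIndex H = _ at h
  rw [hi] at h
  rw [← h, mul_comm]

end Half

/-- A 2-subgroup of a subgroup containing a Sylow 2-subgroup is conjugate into it. -/
theorem exists_conj_sylow [Finite G] (S : Sylow 2 G) {H R : Subgroup G} (hSH : (S : Subgroup G) ≤ H)
    (hRH : R ≤ H) (hR : IsPGroup 2 R) : ∃ c ∈ H, ∀ r ∈ R, c * r * c⁻¹ ∈ (S : Subgroup G) := by
  haveI : Fact (Nat.Prime 2) := ⟨Nat.prime_two⟩
  obtain ⟨T, hT⟩ := IsPGroup.exists_le_sylow (p := 2) (hR.comap_subtype (K := H))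
  obtain ⟨c, hc⟩ := MulAction.exists_smul_eq H T (S.subtype hSH)
  refine ⟨c, c.2, fun r hr => ?_⟩
  have h : c * ⟨r, hRH hr⟩ * c⁻¹ ∈ ((c • T : Sylow 2 H) : Subgroup H) :=
    Subgroup.smul_mem_pointwise_smul _ (MulAut.conj c) (T : Subgroup H) (hT hr)
  rw [hc, Sylow.coe_subtype, mem_subgroupOf] at h
  exact h

/-- `S = ⟨σ, τ⟩` is dihedral of order `2 ^ (k + 2) ≥ 8`, with central involution `t`, inside `M`. -/
structure Base [Finite G] (S : Sylow 2 G) (t : G) (M : Subgroup G) (σ τ : G) (k : ℕ) : Prop where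
  hk : 1 ≤ k
  hCM : Cent t ≤ M
  hSC : (S : Subgroup G) ≤ Cent t
  hσ : σ ∈ (S : Subgroup G)
  hτ : τ ∈ (S : Subgroup G)
  hσo : orderOf σ = 2 ^ (k + 1)
  hτo : orderOf τ = 2
  hrel : τ * σ * τ⁻¹ = σ⁻¹
  hgen : closure ({σ, τ} : Set G) = (S : Subgroup G)
  hJ : σ ^ 2 ^ k = t
  hcard : Nat.card (S : Subgroup G) = 2 ^ (k + 2)
  hform : ∀ x ∈ (S : Subgroup G), ∃ i : ℕ, x = σ ^ i ∨ x = σ ^ i * τ

variable [Finite G] {S : Sylow 2 G} {t : G}

theorem exists_base (hyp : Hyp S t) (g : BSW.DihedralTI.Gens S t) (hk : 1 ≤ g.k) {M : Subgroup G}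
    (hCM : Cent t ≤ M) : Base S t M g.σ g.τ g.k := by
  refine ⟨hk, hCM, hyp.sylow_le_cent, g.hσ, g.hτ, g.hord.trans g.hn, g.hτo, g.hrel, gens_closure g,
    exists_rot hyp, ?_, fun x hx => ?_⟩
  · rw [g.hcard, g.hn, pow_succ' 2 (g.k + 1)]
  · obtain ⟨i, hi⟩ := g.hform x hx
    have he : ∀ i : ℤ, g.σ ^ i = g.σ ^ (i % (orderOf g.σ : ℤ)).toNat := fun i => by
      conv_lhs => rw [← zpow_mod_orderOf]
      rw [← zpow_natCast, Int.toNat_of_nonneg (Int.emod_nonneg _ (by simp [(orderOf_pos g.σ).ne']))]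
    exact ⟨(i % (orderOf g.σ : ℤ)).toNat, by rw [← he]; exact hi⟩

namespace Base

variable {M : Subgroup G} {σ τ : G} {k : ℕ} (b : Base S t M σ τ k)
include b

theorem hSM : (S : Subgroup G) ≤ M := b.hSC.trans b.hCM

theorem tM : t ∈ M := b.hCM (BSW.mem_cent.2 rfl)

theorem tS : t ∈ (S : Subgroup G) := b.hJ ▸ pow_mem b.hσ _

theorem torder : orderOf t = 2 := by
  rw [← b.hJ, orderOf_pow' _ (pow_ne_zero _ two_ne_zero), b.hσo,
    Nat.gcd_eq_right (pow_dvd_pow 2 (Nat.le_succ _)), pow_succ', Nat.mul_div_cancel _ (by positivity)]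

theorem sigma_pow_eq : σ ^ 2 ^ (k + 1) = 1 := b.hσo ▸ pow_orderOf_eq_one σ

theorem half_pow : σ ^ 2 ^ (k - 1) * σ ^ 2 ^ (k - 1) = t := by
  rw [← pow_add, ← two_mul, ← pow_succ', show k - 1 + 1 = k by have := b.hk; omega, b.hJ]

theorem tau_conj_pow (i : ℕ) : τ * σ ^ i = (σ ^ i)⁻¹ * τ := by
  rw [← inv_pow, ← b.hrel, conj_pow]; group

theorem refl_sq (i : ℕ) : σ ^ i * τ * (σ ^ i * τ) = 1 := by
  rw [mul_assoc, ← mul_assoc τ, b.tau_conj_pow, mul_assoc, BSW.sq_of_order b.hτo, mul_one,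
    mul_inv_cancel]

theorem tau_not_mem : τ ∉ zpowers σ := fun h => by
  have hle : (S : Subgroup G) ≤ zpowers σ := fun x hx => by
    obtain ⟨i, rfl | rfl⟩ := b.hform x hx
    · exact pow_mem (mem_zpowers _) i
    · exact mul_mem (pow_mem (mem_zpowers _) i) h
  have h := card_le_of_le hle
  rw [b.hcard, Nat.card_zpowers, b.hσo] at h
  exact absurd h (Nat.not_le.2 (Nat.pow_lt_pow_right one_lt_two (by omega)))

theorem refl_not_mem (i : ℕ) : σ ^ i * τ ∉ zpowers σ := fun h => b.tau_not_mem <| by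
  have := mul_mem (inv_mem (pow_mem (mem_zpowers σ) i)) h
  rwa [inv_mul_cancel_left] at this

theorem refl_order (i : ℕ) : orderOf (σ ^ i * τ) = 2 :=
  BSW.order_of_sq (b.refl_sq i) fun h => b.refl_not_mem i (h ▸ one_mem _)

theorem refl_ne (i : ℕ) : σ ^ i * τ ≠ t := fun h =>
  b.refl_not_mem i (by rw [h, ← b.hJ]; exact pow_mem (mem_zpowers _) _)

theorem refl_mem (i : ℕ) : σ ^ i * τ ∈ (S : Subgroup G) := mul_mem (pow_mem b.hσ i) b.hτ

theorem conj_tau (m : ℕ) : σ ^ m * τ * (σ ^ m)⁻¹ = σ ^ (2 * m) * τ := by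
  have h : τ * (σ ^ m)⁻¹ = σ ^ m * τ := by
    calc τ * (σ ^ m)⁻¹ = σ ^ m * ((σ ^ m)⁻¹ * τ) * (σ ^ m)⁻¹ := by group
      _ = σ ^ m * (τ * σ ^ m) * (σ ^ m)⁻¹ := by rw [b.tau_conj_pow]
      _ = σ ^ m * τ := by group
  rw [mul_assoc, h, ← mul_assoc, ← pow_add, two_mul]

theorem conj_sigma_tau (m : ℕ) : σ ^ m * (σ * τ) * (σ ^ m)⁻¹ = σ ^ (2 * m + 1) * τ := by
  rw [show σ ^ m * (σ * τ) * (σ ^ m)⁻¹ = σ * (σ ^ m * τ * (σ ^ m)⁻¹) by
    rw [← mul_assoc (σ ^ m), (Commute.pow_self σ m).eq]; group, b.conj_tau, ← mul_assoc, ← pow_succ']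

theorem even_refl (m : ℕ) : ConjIn (S : Subgroup G) τ (σ ^ (2 * m) * τ) :=
  ⟨σ ^ m, pow_mem b.hσ m, b.conj_tau m⟩

theorem odd_refl (m : ℕ) : ConjIn (S : Subgroup G) (σ * τ) (σ ^ (2 * m + 1) * τ) :=
  ⟨σ ^ m, pow_mem b.hσ m, b.conj_sigma_tau m⟩

theorem t_mul_refl (i : ℕ) : ConjIn (S : Subgroup G) (σ ^ i * τ) (t * (σ ^ i * τ)) := by
  refine ⟨σ ^ 2 ^ (k - 1), pow_mem b.hσ _, ?_⟩
  calc σ ^ 2 ^ (k - 1) * (σ ^ i * τ) * (σ ^ 2 ^ (k - 1))⁻¹
      = σ ^ i * (σ ^ 2 ^ (k - 1) * τ * (σ ^ 2 ^ (k - 1))⁻¹) := by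
        rw [← mul_assoc (σ ^ 2 ^ (k - 1)), (Commute.pow_pow_self σ _ i).eq]; group
    _ = σ ^ i * (σ ^ 2 ^ (k - 1) * σ ^ 2 ^ (k - 1) * τ) := by rw [b.conj_tau, two_mul, pow_add]
    _ = σ ^ i * (t * τ) := by rw [b.half_pow]
    _ = t * (σ ^ i * τ) := by
        rw [← mul_assoc, ← mul_assoc, ← b.hJ, (Commute.pow_pow_self σ i _).eq]

/-- An involution of `S` is `t` or a reflection. -/
theorem sylow_invol {x : G} (hx : x ∈ (S : Subgroup G)) (hx2 : orderOf x = 2) :
    x = t ∨ ∃ i : ℕ, x = σ ^ i * τ := by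
  obtain ⟨i, rfl | rfl⟩ := b.hform x hx
  · exact Or.inl (eq_of_invol_zpowers (pow_mem (mem_zpowers σ) i)
      (b.hJ ▸ pow_mem (mem_zpowers σ) _) hx2 b.torder)
  · exact Or.inr ⟨i, rfl⟩

/-- The involutions of `M`. -/
theorem classify {x : G} (hx : x ∈ M) (hx2 : orderOf x = 2) :
    ConjIn M t x ∨ ConjIn M τ x ∨ ConjIn M (σ * τ) x := by
  obtain ⟨c, hc, hcS⟩ := exists_conj_sylow S b.hSM (zpowers_le.2 hx)
    (IsPGroup.of_card (n := 1) (by rw [Nat.card_zpowers, hx2, pow_one]))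
  have h1 : ConjIn M (c * x * c⁻¹) x := ⟨c⁻¹, inv_mem hc, by group⟩
  have ho : orderOf (c * x * c⁻¹) = 2 := by
    rw [show c * x * c⁻¹ = MulAut.conj c x from rfl, MulEquiv.orderOf_eq, hx2]
  rcases b.sylow_invol (hcS x (mem_zpowers x)) ho with e | ⟨i, e⟩ <;> rw [e] at h1
  · exact Or.inl h1
  · rcases Nat.even_or_odd' i with ⟨m, rfl | rfl⟩
    · exact Or.inr (Or.inl (((b.even_refl m).mono b.hSM).trans h1))
    · exact Or.inr (Or.inr (((b.odd_refl m).mono b.hSM).trans h1))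

/-- Exchange `τ` and `σ τ`. -/
theorem shift : Base S t M σ (σ * τ) k := by
  refine ⟨b.hk, b.hCM, b.hSC, b.hσ, mul_mem b.hσ b.hτ, b.hσo, by simpa using b.refl_order 1, ?_, ?_,
    b.hJ, b.hcard, fun x hx => ?_⟩
  · calc σ * τ * σ * (σ * τ)⁻¹ = σ * (τ * σ * τ⁻¹) * σ⁻¹ := by group
      _ = σ⁻¹ := by rw [b.hrel]; group
  · refine le_antisymm ((closure_le _).2 ?_) ?_
    · rintro x (rfl | rfl)
      · exact b.hσ
      · exact mul_mem b.hσ b.hτ
    · rw [← b.hgen, closure_le]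
      rintro x (rfl | rfl)
      · exact Subgroup.subset_closure (Set.mem_insert _ _)
      · have h1 : σ⁻¹ * (σ * x) ∈ closure ({σ, σ * x} : Set G) :=
          mul_mem (inv_mem (Subgroup.subset_closure (Set.mem_insert _ _)))
            (Subgroup.subset_closure (Set.mem_insert_of_mem _ rfl))
        rwa [inv_mul_cancel_left] at h1
  · obtain ⟨i, rfl | rfl⟩ := b.hform x hx
    · exact ⟨i, Or.inl rfl⟩
    · refine ⟨i + (2 ^ (k + 1) - 1), Or.inr ?_⟩
      rw [← mul_assoc, ← pow_succ, show i + (2 ^ (k + 1) - 1) + 1 = i + 2 ^ (k + 1) by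
        have := Nat.one_le_two_pow (n := k + 1); omega, pow_add, b.sigma_pow_eq, mul_one]

/-- `t` not conjugate to `τ`: a subgroup of index 2 avoiding `τ`. -/
theorem exists_half (hnot : ¬ ConjIn M t τ) : ∃ L, Half M L ∧ τ ∉ L := by
  haveI : Fact (Nat.Prime 2) := ⟨Nat.prime_two⟩
  set σ' : M := ⟨σ, b.hSM b.hσ⟩ with hσ'
  set τ' : M := ⟨τ, b.hSM b.hτ⟩ with hτ'
  set P : Sylow 2 M := S.subtype b.hSM with hP
  have hPmem : ∀ x : M, x ∈ (P : Subgroup M) ↔ (x : G) ∈ (S : Subgroup G) := fun x => by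
    rw [hP, Sylow.coe_subtype, mem_subgroupOf]
  have hQ : zpowers σ' ≤ (P : Subgroup M) := zpowers_le.2 ((hPmem _).2 b.hσ)
  have hQi : (zpowers σ').relIndex (P : Subgroup M) = 2 := by
    have h1 := ((zpowers σ').subgroupOf (P : Subgroup M)).card_mul_index
    rw [Nat.card_congr (subgroupOfEquivOfLe hQ).toEquiv, Nat.card_zpowers, hσ', Subgroup.orderOf_mk,
      b.hσo, hP, Sylow.coe_subtype, Nat.card_congr (subgroupOfEquivOfLe b.hSM).toEquiv, b.hcard] at h1
    exact Nat.eq_of_mul_eq_mul_left (by positivity) (h1.trans (pow_succ 2 (k + 1)))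
  have hnQ : ∀ g : M, g * τ' * g⁻¹ ∉ zpowers σ' := by
    intro g hg
    obtain ⟨i, hi⟩ := mem_zpowers_iff.1 hg
    have e : (g : G) * τ * (g : G)⁻¹ = σ ^ i := by
      simpa [hσ', hτ'] using (congrArg Subtype.val hi).symm
    have e2 : (g : G) * τ * (g : G)⁻¹ = t := eq_of_invol_zpowers (e ▸ zpow_mem (mem_zpowers σ) i)
      (b.hJ ▸ pow_mem (mem_zpowers σ) _)
      (by rw [show (g : G) * τ * (g : G)⁻¹ = MulAut.conj (g : G) τ from rfl, MulEquiv.orderOf_eq, b.hτo])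
      b.torder
    exact hnot (ConjIn.symm ⟨g, g.2, e2⟩)
  obtain ⟨L, hLn, hLi, hLτ⟩ := Transfer.exists_index_two_of_involution P (zpowers σ') hQ hQi τ'
    (Subtype.ext (by rw [SubgroupClass.coe_pow, pow_two]; exact BSW.sq_of_order b.hτo))
    ((hPmem _).2 b.hτ) (fun h => hnQ 1 (by simpa using h)) hnQ
  refine ⟨L.map M.subtype, ⟨map_subtype_le L, ?_, ?_⟩, ?_⟩
  · rintro g hg _ ⟨x, hx, rfl⟩
    exact ⟨_, hLn.conj_mem x hx ⟨g, hg⟩, rfl⟩
  · intro x hx y hy hxL hyL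
    refine ⟨⟨x, hx⟩ * ⟨y, hy⟩, (mul_mem_iff_of_index_two hLi).2 ?_, rfl⟩
    exact iff_of_false (fun h => hxL ⟨_, h, rfl⟩) (fun h => hyL ⟨_, h, rfl⟩)
  · rintro ⟨x, hx, hxe⟩
    obtain rfl : x = τ' := Subtype.ext hxe
    exact hLτ hx

/-- `t` conjugate neither to `τ` nor to `σ τ`: a normal 2-complement. -/
theorem hasNormalPComplement (h1 : ¬ ConjIn M t τ) (h2 : ¬ ConjIn M t (σ * τ)) :
    HasNormalPComplement 2 M := by
  haveI : Fact (Nat.Prime 2) := ⟨Nat.prime_two⟩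
  obtain ⟨L₀, hl₀, hτ₀⟩ := b.exists_half h1
  obtain ⟨L₁, hl₁, hτ₁⟩ := b.shift.exists_half h2
  set L : Subgroup M := (L₀ ⊓ L₁).subgroupOf M with hL
  obtain ⟨T⟩ := (inferInstance : Nonempty (Sylow 2 L))
  have hcyc : IsCyclic (T : Subgroup L) := by
    set R := (T : Subgroup L).map (M.subtype.comp L.subtype) with hR
    have hinj : Function.Injective (M.subtype.comp L.subtype) := fun x y e => Subtype.ext (Subtype.ext e)
    obtain ⟨c, hc, hcS⟩ := exists_conj_sylow S b.hSM (R := R)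
      (by rintro _ ⟨x, -, rfl⟩; exact (x : M).2) (T.2.map _)
    have hle : R.map (MulAut.conj c).toMonoidHom ≤ zpowers σ := by
      rintro _ ⟨_, ⟨x, hxT, rfl⟩, rfl⟩
      show c * ((x : M) : G) * c⁻¹ ∈ zpowers σ
      have hxL : ((x : M) : G) ∈ L₀ ⊓ L₁ := x.2
      obtain ⟨i, hi | hi⟩ := b.hform (c * ((x : M) : G) * c⁻¹) (hcS _ ⟨x, hxT, rfl⟩)
      · exact hi ▸ pow_mem (mem_zpowers σ) i
      · exfalso
        rcases Nat.even_or_odd' i with ⟨m, rfl | rfl⟩
        · obtain ⟨s, hs, hse⟩ := ((b.even_refl m).symm).mono b.hSM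
          have h := hl₀.conj s hs _ (hl₀.conj c hc _ hxL.1)
          rw [hi] at h
          exact hτ₀ (hse ▸ h)
        · obtain ⟨s, hs, hse⟩ := ((b.odd_refl m).symm).mono b.hSM
          have h := hl₁.conj s hs _ (hl₁.conj c hc _ hxL.2)
          rw [hi] at h
          exact hτ₁ (hse ▸ h)
    haveI : IsCyclic (R.map (MulAut.conj c).toMonoidHom) := isCyclic_of_le hle
    let e : (T : Subgroup L) ≃* (R.map (MulAut.conj c).toMonoidHom : Subgroup G) :=
      ((T : Subgroup L).equivMapOfInjective _ hinj).trans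
        (R.equivMapOfInjective _ (MulAut.conj c).injective)
    exact e.isCyclic.2 inferInstance
  obtain ⟨T', K, hK, hKT⟩ := hasNormalPComplement_of_cyclic_two T hcyc
  haveI := hK
  have hKodd : Odd (Nat.card K) := Nat.coprime_two_right.1
    (Transfer.coprime_card_of_isComplement'_sylow T' hKT)
  set N : Subgroup M := K.map L.subtype with hN
  have hNmem : ∀ x : M, x ∈ N ↔ Odd (orderOf x) := by
    intro x
    constructor
    · rintro ⟨y, hy, rfl⟩
      rw [Subgroup.coe_subtype, Subgroup.orderOf_coe]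
      exact hKodd.of_dvd_nat (Subgroup.orderOf_dvd_natCard _ hy)
    · intro hx
      have ho : Odd (orderOf (x : G)) := by rwa [Subgroup.orderOf_coe]
      have hxL : x ∈ L := by
        rw [hL, mem_subgroupOf]
        exact ⟨hl₀.mem_of_odd x.2 ho, hl₁.mem_of_odd x.2 ho⟩
      refine ⟨⟨x, hxL⟩, ?_, rfl⟩
      rw [SetLike.mem_coe, ← QuotientGroup.eq_one_iff]
      refine orderOf_eq_one_iff.1 (Nat.eq_one_of_dvd_coprimes (a := orderOf x) (b := K.index) ?_ ?_ ?_)
      · obtain ⟨e, he⟩ := IsPGroup.iff_card.1 T'.2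
        rw [hKT.symm.index_eq_card, he]
        exact (Nat.coprime_two_right.2 hx).pow_right e
      · refine (orderOf_map_dvd (QuotientGroup.mk' K) _).trans ?_
        rw [← Subgroup.orderOf_coe]
      · rw [Subgroup.index_eq_card]; exact orderOf_dvd_natCard _
  have hNodd : Odd (Nat.card N) := by rwa [hN, card_map_of_injective L.subtype_injective]
  haveI hNn : N.Normal := ⟨fun v hv c => by
    rw [hNmem] at hv ⊢
    rwa [← MulAut.conj_apply, MulEquiv.orderOf_eq]⟩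
  have hq : IsPGroup 2 (M ⧸ N) := by
    intro q
    obtain ⟨x, rfl⟩ := QuotientGroup.mk'_surjective N q
    obtain ⟨e, m, hm, hxo⟩ := Nat.exists_eq_two_pow_mul_odd (orderOf_pos x).ne'
    refine ⟨e, ?_⟩
    rw [← map_pow]
    exact (QuotientGroup.eq_one_iff _).2 ((hNmem _).2 (by
      rw [orderOf_pow_of_dvd (by positivity) (hxo ▸ dvd_mul_right _ _), hxo,
        Nat.mul_div_cancel_left _ (by positivity)]
      exact hm))
  obtain ⟨a, ha⟩ := IsPGroup.iff_card.1 hq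
  refine ⟨S.subtype b.hSM, N, hNn, ?_⟩
  set P := S.subtype b.hSM
  obtain ⟨e, he⟩ := IsPGroup.iff_card.1 P.isPGroup'
  refine Subgroup.isComplement'_of_coprime ?_ (by
    rw [he]; exact (Nat.coprime_two_right.2 hNodd).pow_right e)
  have h1 := N.card_mul_index
  rw [Subgroup.index_eq_card, ha] at h1
  have h2 : (Nat.card M).factorization 2 = e := by
    have := Sylow.card_eq_multiplicity P
    rw [he] at this
    exact ((Nat.pow_right_injective le_rfl) this).symm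
  rw [← h1, Nat.factorization_mul Nat.card_pos.ne' (by positivity), Finsupp.add_apply,
    Nat.prime_two.factorization_pow, Finsupp.single_eq_same,
    Nat.factorization_eq_zero_of_not_dvd fun h =>
      Nat.not_even_iff_odd.2 hNodd (even_iff_two_dvd.2 h), zero_add] at h2
  rw [he, ← h1, h2]

/-- `t` conjugate to `τ` and to `σ τ`: one class. -/
theorem oneClass (h1 : ConjIn M t τ) (h2 : ConjIn M t (σ * τ)) :
    ∀ x y : M, orderOf x = 2 → orderOf y = 2 → IsConj x y := by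
  have key : ∀ x : M, orderOf x = 2 → ConjIn M t x := fun x hx => by
    rcases b.classify x.2 (by rwa [Subgroup.orderOf_coe]) with h | h | h
    · exact h
    · exact h1.trans h
    · exact h2.trans h
  exact fun x y hx hy => ConjIn.isConj ((key x hx).symm.trans (key y hy))

end Base

/-- A Klein four Sylow subgroup: one class of involutions or a normal 2-complement. -/
theorem oneClass_klein [IsKleinFour (S : Subgroup G)] {M : Subgroup G}
    (hSM : (S : Subgroup G) ≤ M) (hbig : ¬ HasNormalPComplement 2 M) :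
    ∀ x y : M, orderOf x = 2 → orderOf y = 2 → IsConj x y := by
  haveI : Fact (Nat.Prime 2) := ⟨Nat.prime_two⟩
  set P : Sylow 2 M := S.subtype hSM with hP
  haveI hK : IsKleinFour (P : Subgroup M) := by
    rw [hP, Sylow.coe_subtype]
    exact ⟨by rw [Nat.card_congr (subgroupOfEquivOfLe hSM).toEquiv, IsKleinFour.card_four],
      by rw [Monoid.exponent_eq_of_mulEquiv (subgroupOfEquivOfLe hSM), IsKleinFour.exponent_two]⟩
  have hsq : ∀ x ∈ (P : Subgroup M), x * x = 1 := fun x hx => by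
    simpa using congrArg Subtype.val (IsKleinFour.mul_self (⟨x, hx⟩ : (P : Subgroup M)))
  have hcomm : IsMulCommutative (P : Subgroup M) := IsKleinFour.isMulCommutative
  -- an element of odd order of the normaliser moving some element of `P`
  obtain ⟨h, hhN, hho, hhC⟩ : ∃ h : M, h ∈ normalizer ((P : Subgroup M) : Set M) ∧ Odd (orderOf h) ∧
      h ∉ centralizer ((P : Subgroup M) : Set M) := by
    by_contra hall
    push Not at hall
    refine hbig (Transfer.hasNormalPComplement_of_normalizer_le_centralizer P fun g hg => ?_)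
    obtain ⟨e, m, hm, hgo⟩ := Nat.exists_eq_two_pow_mul_odd (orderOf_pos g).ne'
    have h1 : g ^ 2 ^ e ∈ centralizer ((P : Subgroup M) : Set M) := by
      refine hall _ (pow_mem hg _) ?_
      rw [orderOf_pow_of_dvd (by positivity) (hgo ▸ dvd_mul_right _ _), hgo,
        Nat.mul_div_cancel_left _ (by positivity)]
      exact hm
    have h2 : g ^ m ∈ centralizer ((P : Subgroup M) : Set M) := by
      have hP2 : g ^ m ∈ (P : Subgroup M) := by
        refine P.is_maximal' (Q := (P : Subgroup M) ⊔ zpowers (g ^ m))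
          (P.2.to_sup_of_normal_left' (IsPGroup.of_card (n := e) ?_)
            (zpowers_le.2 (pow_mem hg m))) le_sup_left ▸ mem_sup_right (mem_zpowers _)
        rw [Nat.card_zpowers, orderOf_pow_of_dvd hm.pos.ne' (hgo ▸ dvd_mul_left _ _), hgo,
          Nat.mul_div_cancel _ hm.pos]
      refine mem_centralizer_iff.2 fun y hy => ?_
      exact congrArg Subtype.val (hcomm.is_comm.comm ⟨y, hy⟩ ⟨_, hP2⟩)
    obtain ⟨u, v, huv⟩ := (Int.isCoprime_iff_nat_coprime (a := ((2 : ℤ) ^ e)) (b := (m : ℤ))).2 (by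
      rw [Int.natAbs_pow, Int.natAbs_natCast]
      exact (Nat.coprime_two_left.2 hm).pow_left e)
    have e1 : g = (g ^ 2 ^ e) ^ u * (g ^ m) ^ v := by
      rw [← zpow_natCast g (2 ^ e), ← zpow_natCast g m, ← zpow_mul, ← zpow_mul, ← zpow_add,
        Nat.cast_pow, Nat.cast_ofNat, mul_comm _ u, mul_comm _ v, huv, zpow_one]
    rw [e1]
    exact mul_mem (zpow_mem h1 u) (zpow_mem h2 v)
  -- `h` has no fixed involution in `P`
  have hmap : ∀ x ∈ (P : Subgroup M), h * x * h⁻¹ ∈ (P : Subgroup M) := fun x hx =>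
    (mem_normalizer_iff.1 hhN x).1 hx
  have hback : ∀ x : M, h * (h * x * h⁻¹) * h⁻¹ = x → h * x * h⁻¹ = x := by
    intro x hx
    obtain ⟨j, hj⟩ := hho
    have h2 : Commute (h * h) x := mul_inv_eq_iff_eq_mul.1 (Eq.trans (by group) hx)
    have h3 := h2.pow_left (j + 1)
    rw [← pow_two, ← pow_mul, show 2 * (j + 1) = orderOf h + 1 by omega, pow_succ,
      pow_orderOf_eq_one, one_mul] at h3
    rw [h3.eq, mul_inv_cancel_right]
  obtain ⟨x₁, hx₁, hmove⟩ : ∃ x ∈ (P : Subgroup M), h * x * h⁻¹ ≠ x := by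
    by_contra hall
    push Not at hall
    exact hhC (mem_centralizer_iff.2 fun y hy => (mul_inv_eq_iff_eq_mul.1 (hall y hy)).symm)
  set x₂ := h * x₁ * h⁻¹ with hx₂
  set x₃ := h * x₂ * h⁻¹ with hx₃
  have hx13 : x₃ ≠ x₁ := fun e => hmove (hback x₁ e)
  have hx23 : x₃ ≠ x₂ := fun e => hmove ((MulAut.conj h).injective e)
  have hx1ne : x₁ ≠ 1 := fun e => hmove (by rw [hx₂, e]; group)
  have hne2 : x₂ ≠ 1 := fun e => hx1ne (conj_eq_one_iff.1 e)
  have hne3 : x₃ ≠ 1 := fun e => hne2 (conj_eq_one_iff.1 e)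
  have hcov : ∀ x ∈ (P : Subgroup M), x ≠ 1 → IsConj x₁ x := by
    intro x hx hx1
    by_contra hcon
    have e1 : x ≠ x₁ := fun e => hcon (e ▸ IsConj.refl _)
    have e2 : x ≠ x₂ := fun e => hcon (e ▸ isConj_iff.2 ⟨h, rfl⟩)
    have e3 : x ≠ x₃ := fun e => hcon (e ▸ (isConj_iff.2 ⟨h * h, by rw [hx₃, hx₂]; group⟩))
    have h5 : ({1, x₁, x₂, x₃, x} : Set M).ncard ≤ 4 := by
      rw [← IsKleinFour.card_four (G := (P : Subgroup M)), ← Nat.card_coe_set_eq]
      refine Nat.card_mono (Set.toFinite _) ?_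
      rintro w (rfl | rfl | rfl | rfl | rfl)
      · exact one_mem _
      · exact hx₁
      · exact hmap _ hx₁
      · exact hmap _ (hmap _ hx₁)
      · exact hx
    classical
    rw [Set.ncard_insert_of_notMem (by simp [hx1ne.symm, hne2.symm, hne3.symm, hx1.symm]) (Set.toFinite _),
      Set.ncard_insert_of_notMem (by simp [Ne.symm hmove, hx13.symm, e1.symm]) (Set.toFinite _),
      Set.ncard_insert_of_notMem (by simp [hx23.symm, e2.symm]) (Set.toFinite _),
      Set.ncard_pair e3.symm] at h5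
    omega
  have key : ∀ x : M, orderOf x = 2 → IsConj x₁ x := by
    intro x hx
    obtain ⟨T, hT⟩ := (IsPGroup.of_card (n := 1) (by rw [Nat.card_zpowers, hx, pow_one]) :
      IsPGroup 2 (zpowers x)).exists_le_sylow
    obtain ⟨c, hc⟩ := MulAction.exists_smul_eq M T P
    have hcx : c * x * c⁻¹ ∈ (P : Subgroup M) := by
      rw [← hc]
      exact Subgroup.smul_mem_pointwise_smul x (MulAut.conj c) (T : Subgroup M) (hT (mem_zpowers x))
    exact (hcov _ hcx fun e => BSW.ne_one_of_order hx (conj_eq_one_iff.1 e)).trans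
      (isConj_iff.2 ⟨c⁻¹, by group⟩)
  exact fun x y hx hy => (key x hx).symm.trans (key y hy)

end Cfsg.Agent.GW.BigCentral
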