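import Cfsg.Agent.Lib.GW.PartII.BigCentral.TwoClass.Base
import Cfsg.Agent.S0213

/-!
# Two classes of involutions in `M`: the Thompson order formula

With `C = |C(t)|`, `C' = |C_M(τ)|`, `p = |C(t, τ)|`, `q = |C(t, σ τ)|`:
`|M| p² q = C' C² p + C C'² q`.
-/

set_option autoImplicit false
set_option linter.style.haveILetI false
set_option linter.unusedSectionVars false

namespace Cfsg.Agent.GW.BigCentral

open Subgroup Cfsg
open BSW (mem_cent sq_of_order)

universe u

variable {G : Type u} [Group G] [Finite G]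

/-- The length of an orbit under conjugation by a subgroup. -/
theorem card_conjIn_mul (H : Subgroup G) (x₀ : G) :
    Nat.card {x : G // ConjIn H x₀ x} * Nat.card (H ⊓ Cent x₀ : Subgroup G) = Nat.card H := by
  let f : H ⧸ (Cent x₀).subgroupOf H → {x : G // ConjIn H x₀ x} :=
    Quotient.lift (fun h => ⟨(h : G) * x₀ * (h : G)⁻¹, h, h.2, rfl⟩) fun a b hab => by
      have h1 : (a⁻¹ * b : H) ∈ (Cent x₀).subgroupOf H :=
        QuotientGroup.leftRel_apply.1 hab
      rw [mem_subgroupOf, mem_cent, Subgroup.coe_mul, Subgroup.coe_inv] at h1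
      refine Subtype.ext ?_
      calc (a : G) * x₀ * (a : G)⁻¹
          = (a : G) * (x₀ * ((a : G)⁻¹ * b)) * (b : G)⁻¹ := by group
        _ = (b : G) * x₀ * (b : G)⁻¹ := by rw [← h1]; group
  have hf : Function.Bijective f := by
    constructor
    · intro a b
      induction a using QuotientGroup.induction_on with | H a => ?_
      induction b using QuotientGroup.induction_on with | H b => ?_
      intro h
      have h' : (a : G) * x₀ * (a : G)⁻¹ = (b : G) * x₀ * (b : G)⁻¹ := congrArg Subtype.val h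
      rw [QuotientGroup.eq, mem_subgroupOf, mem_cent, Subgroup.coe_mul, Subgroup.coe_inv]
      calc (a : G)⁻¹ * b * x₀ = (a : G)⁻¹ * ((b : G) * x₀ * (b : G)⁻¹) * b := by group
        _ = x₀ * ((a : G)⁻¹ * b) := by rw [← h']; group
    · rintro ⟨x, h, hh, e⟩
      exact ⟨QuotientGroup.mk ⟨h, hh⟩, Subtype.ext e⟩
  have h := ((Cent x₀).subgroupOf H).card_mul_index
  rw [Subgroup.index_eq_card, Nat.card_congr (Equiv.ofBijective f hf),
    ← inf_subgroupOf_left, Nat.card_congr (subgroupOfEquivOfLe (inf_le_left : H ⊓ Cent x₀ ≤ H)).toEquiv]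
    at h
  rw [← h, mul_comm]

theorem centralizer_pair_eq (x y : G) : centralizer ({x, y} : Set G) = Cent x ⊓ Cent y := by
  ext z
  rw [mem_centralizer_iff, mem_inf, mem_cent, mem_cent]
  constructor
  · exact fun h => ⟨(h x (Set.mem_insert _ _)).symm, (h y (Set.mem_insert_of_mem _ rfl)).symm⟩
  · rintro ⟨h1, h2⟩ w (rfl | rfl)
    exacts [h1.symm, h2.symm]

theorem orderOf_conj {x : G} (hx : orderOf x = 2) (c : G) : orderOf (c * x * c⁻¹) = 2 := by
  rw [show c * x * c⁻¹ = MulAut.conj c x from rfl, MulEquiv.orderOf_eq, hx]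

theorem commute_conj {x y : G} (h : Commute x y) (c : G) : Commute (c * x * c⁻¹) (c * y * c⁻¹) :=
  h.map (MulAut.conj c).toMonoidHom

theorem conj_inj {c x y : G} (h : c * x * c⁻¹ = c * y * c⁻¹) : x = y := (MulAut.conj c).injective h

/-- Two classes of involutions in `M`: `t` is conjugate to `σ τ` and not to `τ`. -/
structure Two (S : Sylow 2 G) (t : G) (M : Subgroup G) (σ τ : G) (k : ℕ) : Prop
    extends Base S t M σ τ k where
  hyp : Hyp S t
  hone : ConjIn M t (σ * τ)
  hnot : ¬ ConjIn M t τ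

namespace Two

variable {S : Sylow 2 G} {t : G} {M : Subgroup G} {σ τ : G} {k : ℕ} (b : Two S t M σ τ k)
include b

theorem tauM : τ ∈ M := b.toBase.hSM b.hτ

theorem t_tau : Commute t τ := (mem_cent.1 (b.hSC b.hτ)).symm

theorem t_ne_tau : t ≠ τ := fun h => b.hnot (h ▸ ConjIn.refl M t)

theorem pair : Pair t τ := ⟨b.toBase.torder, b.hτo, b.t_tau.eq, b.t_ne_tau⟩

theorem tau_ttau : ConjIn M τ (t * τ) := by
  have h := (b.toBase.t_mul_refl 0).mono b.toBase.hSM
  rwa [pow_zero, one_mul] at h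

/-- A pair of involutions from the two classes has a product of even order. -/
theorem pair_facts {u v : G} (hu : ConjIn M t u) (hv : ConjIn M τ v) :
    orderOf u = 2 ∧ orderOf v = 2 ∧ Even (orderOf (u * v)) := by
  obtain ⟨a, ha, rfl⟩ := hu
  obtain ⟨c, hc, rfl⟩ := hv
  refine ⟨orderOf_conj b.toBase.torder a, orderOf_conj b.hτo c, ?_⟩
  rw [← Nat.not_odd_iff_even]
  intro hodd
  obtain ⟨d, hd, hde⟩ := Involution.exists_conj_pair_of_odd
    (sq_of_order (orderOf_conj b.toBase.torder a)) (sq_of_order (orderOf_conj b.hτo c)) hodd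
  have hdM : d ∈ M := (closure_le M).2 (by
    rintro x (rfl | rfl)
    · exact mul_mem (mul_mem ha b.toBase.tM) (inv_mem ha)
    · exact mul_mem (mul_mem hc b.tauM) (inv_mem hc)) hd
  exact b.hnot ((ConjIn.trans ⟨a, ha, rfl⟩ ⟨d, hdM, hde⟩).trans ⟨c⁻¹, inv_mem hc, by group⟩)

/-- The product determines its involution. -/
theorem exists_half_power {u v : G} (hu : ConjIn M t u) (hv : ConjIn M τ v) :
    ∃ j : G, orderOf j = 2 ∧ j ∈ zpowers (u * v) ∧ Commute j u ∧ Commute j v ∧
      ∀ w, orderOf w = 2 → w ∈ zpowers (u * v) → w = j := by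
  obtain ⟨hu2, hv2, he⟩ := b.pair_facts hu hv
  obtain ⟨h1, h2, h3⟩ := Involution.half_power_facts (sq_of_order hu2) (sq_of_order hv2) he
  exact ⟨_, h1, pow_mem (mem_zpowers _) _, h2, h3, fun w hw hmem => S0213.half_unique he hw hmem⟩

/-- The pairs with `t ∈ ⟨u v⟩`. -/
theorem pairs_t_iff {u v : G} :
    (ConjIn M t u ∧ ConjIn M τ v ∧ t ∈ zpowers (u * v)) ↔
      (ConjIn (Cent t) (σ * τ) u ∧ ConjIn (Cent t) τ v) := by
  have hb := b.toBase
  constructor
  · rintro ⟨hu, hv, hmem⟩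
    obtain ⟨hu2, hv2, -⟩ := b.pair_facts hu hv
    obtain ⟨j, -, -, hju, hjv, huniq⟩ := b.exists_half_power hu hv
    obtain rfl := huniq t hb.torder hmem
    have hut : u ≠ t := by
      intro e
      rw [e] at hmem
      have hvt : v ≠ t := fun e' => b.hnot (e' ▸ hv).symm
      have ho : orderOf (t * v) = 2 :=
        BSW.order_of_sq (Pair.mul_sq ⟨hb.torder, hv2, hjv.eq, Ne.symm hvt⟩) fun h => hvt
          ((eq_inv_of_mul_eq_one_right h).trans (BSW.inv_of_order hb.torder))
      have h := eq_of_invol_zpowers hmem (mem_zpowers _) hb.torder ho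
      exact BSW.ne_one_of_order hv2 (mul_eq_left.1 h.symm)
    have hvt : v ≠ t := fun e => b.hnot (e ▸ hv).symm
    have hinto : ∀ w, orderOf w = 2 → w ≠ t → Commute t w →
        ∃ i : ℕ, ConjIn (Cent t) (σ ^ i * τ) w := by
      intro w hw hwt hwc
      obtain ⟨c, hc, hcS⟩ := exists_conj_sylow S b.hSC (zpowers_le.2 (mem_cent.2 hwc.eq.symm))
        (IsPGroup.of_card (n := 1) (by rw [Nat.card_zpowers, hw, pow_one]))
      rcases hb.sylow_invol (hcS w (mem_zpowers w)) (orderOf_conj hw c) with e | ⟨i, e⟩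
      · exfalso
        refine hwt (conj_inj (c := c) ?_)
        rw [e, mem_cent.1 hc, mul_inv_cancel_right]
      · exact ⟨i, ConjIn.symm ⟨c, hc, e⟩⟩
    obtain ⟨i, hi⟩ := hinto u hu2 hut hju
    obtain ⟨l, hl⟩ := hinto v hv2 hvt hjv
    refine ⟨?_, ?_⟩
    · rcases Nat.even_or_odd' i with ⟨m, rfl | rfl⟩
      · exact absurd ((hu.trans (hi.mono b.hCM).symm).trans ((hb.even_refl m).mono hb.hSM).symm) b.hnot
      · exact ((hb.odd_refl m).mono b.hSC).trans hi
    · rcases Nat.even_or_odd' l with ⟨m, rfl | rfl⟩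
      · exact ((hb.even_refl m).mono b.hSC).trans hl
      · exact absurd (((b.hone.trans ((hb.odd_refl m).mono hb.hSM)).trans (hl.mono b.hCM)).trans hv.symm)
          b.hnot
  · rintro ⟨hu', hv'⟩
    have hu : ConjIn M t u := b.hone.trans (hu'.mono b.hCM)
    have hv : ConjIn M τ v := hv'.mono b.hCM
    refine ⟨hu, hv, ?_⟩
    obtain ⟨hu2, hv2, -⟩ := b.pair_facts hu hv
    obtain ⟨j, hj2, hjmem, hju, hjv, -⟩ := b.exists_half_power hu hv
    have hconj : ∀ {x w : G}, x ∈ (S : Subgroup G) → ConjIn (Cent t) x w → Commute t w ∧ (w = t → x = t) := by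
      rintro x w hx ⟨c, hc, rfl⟩
      refine ⟨?_, fun e => ?_⟩
      · have := commute_conj (mem_cent.1 (b.hSC hx) : Commute x t) c
        rw [mem_cent.1 hc, mul_inv_cancel_right] at this
        exact this.symm
      · refine conj_inj (c := c) ?_
        rw [e, mem_cent.1 hc, mul_inv_cancel_right]
    obtain ⟨htu, hut⟩ := hconj (mul_mem b.hσ b.hτ) hu'
    obtain ⟨htv, hvt⟩ := hconj b.hτ hv'
    have hjt : Commute t j := by
      obtain ⟨n, rfl⟩ := mem_zpowers_iff.1 hjmem
      exact (htu.mul_right htv).zpow_right n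
    by_contra hne
    have hjne : j ≠ t := fun e => hne (e ▸ hjmem)
    obtain ⟨c, hc, hcS⟩ := exists_conj_sylow S b.hSC (zpowers_le.2 (mem_cent.2 hjt.eq.symm))
      (IsPGroup.of_card (n := 1) (by rw [Nat.card_zpowers, hj2, pow_one]))
    have hfix : c * t * c⁻¹ = t := by rw [mem_cent.1 hc, mul_inv_cancel_right]
    rcases hb.sylow_invol (hcS j (mem_zpowers j)) (orderOf_conj hj2 c) with e | ⟨i, e⟩
    · exact hjne (conj_inj (e.trans hfix.symm))
    have hP : Pair t (σ ^ i * τ) := ⟨hb.torder, hb.refl_order i,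
      (mem_cent.1 (b.hSC (hb.refl_mem i))).symm, (hb.refl_ne i).symm⟩
    have hmem : ∀ w, orderOf w = 2 → w ≠ t → Commute t w → Commute j w →
        c * w * c⁻¹ = σ ^ i * τ ∨ c * w * c⁻¹ = t * (σ ^ i * τ) := by
      intro w hw hwt htw hjw
      rcases b.hyp.mem_four_of_commute hP (orderOf_conj hw c)
        (by have := commute_conj htw.symm c; rwa [hfix] at this)
        (by have := commute_conj hjw.symm c; rwa [e] at this) with h | h | h | h
      · exact absurd h (BSW.ne_one_of_order (orderOf_conj hw c))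
      · exact absurd (conj_inj (h.trans hfix.symm)) hwt
      · exact Or.inl h
      · exact Or.inr h
    have huv : ConjIn M (c * u * c⁻¹) (c * v * c⁻¹) := by
      have hc' := (hb.t_mul_refl i).mono hb.hSM
      rcases hmem u hu2 (fun h => hb.refl_ne 1 (by rw [pow_one]; exact hut h)) htu hju with h | h <;>
        rcases hmem v hv2 (fun h => b.t_ne_tau (hvt h).symm) htv hjv with h' | h' <;> rw [h, h']
      · exact ConjIn.refl _ _
      · exact hc'
      · exact hc'.symm
      · exact ConjIn.refl _ _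
    have hcM := b.hCM hc
    exact b.hnot (((hu.trans ⟨c, hcM, rfl⟩).trans huv).trans
      (ConjIn.trans ⟨c⁻¹, inv_mem hcM, by group⟩ hv.symm))

/-- An involution of `C_M(τ)` other than `τ` is conjugate there to `t` or `t τ`. -/
theorem classify_cent {w : G} (hwM : w ∈ M) (hw : orderOf w = 2) (hwτ : w ≠ τ) (hwc : Commute w τ) :
    ConjIn (M ⊓ Cent τ) t w ∨ ConjIn (M ⊓ Cent τ) (t * τ) w := by
  have hb := b.toBase
  have hp : Pair w τ := ⟨hw, b.hτo, hwc.eq, hwτ⟩
  obtain ⟨c, hc, hcS⟩ := exists_conj_sylow S hb.hSM (hp.four_le hwM b.tauM) hp.isPGroup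
  obtain ⟨m, hm⟩ : ∃ m, c * τ * c⁻¹ = σ ^ (2 * m) * τ := by
    rcases hb.sylow_invol (hcS τ hp.right_mem) (orderOf_conj b.hτo c) with e | ⟨i, e⟩
    · exact absurd (ConjIn.symm ⟨c, hc, e⟩) b.hnot
    · rcases Nat.even_or_odd' i with ⟨m, rfl | rfl⟩
      · exact ⟨m, e⟩
      · exact absurd ((b.hone.trans ((hb.odd_refl m).mono hb.hSM)).trans (ConjIn.symm ⟨c, hc, e⟩))
          b.hnot
  set d := (σ ^ m)⁻¹ * c with hd
  have hdM : d ∈ M := mul_mem (inv_mem (hb.hSM (pow_mem b.hσ m))) hc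
  have hdτ : d * τ * d⁻¹ = τ := by
    rw [hd, show (σ ^ m)⁻¹ * c * τ * ((σ ^ m)⁻¹ * c)⁻¹ = (σ ^ m)⁻¹ * (c * τ * c⁻¹) * σ ^ m by group,
      hm, ← hb.conj_tau m]
    group
  have hdC : d ∈ M ⊓ Cent τ := ⟨hdM, mem_cent.2 (mul_inv_eq_iff_eq_mul.1 hdτ)⟩
  have hwS : d * w * d⁻¹ ∈ (S : Subgroup G) := by
    rw [hd, show (σ ^ m)⁻¹ * c * w * ((σ ^ m)⁻¹ * c)⁻¹ = (σ ^ m)⁻¹ * (c * w * c⁻¹) * σ ^ m by group]
    exact mul_mem (mul_mem (inv_mem (pow_mem b.hσ m)) (hcS w hp.left_mem)) (pow_mem b.hσ m)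
  have hcomm : Commute (d * w * d⁻¹) τ := by
    have := commute_conj hwc d
    rwa [hdτ] at this
  rcases b.hyp.mem_four_of_commute b.pair (orderOf_conj hw d) (mem_cent.1 (b.hSC hwS)) hcomm with
    h | h | h | h
  · exact absurd h (BSW.ne_one_of_order (orderOf_conj hw d))
  · exact Or.inl (ConjIn.symm ⟨d, hdC, h⟩)
  · exact absurd (conj_inj (h.trans hdτ.symm)) hwτ
  · exact Or.inr (ConjIn.symm ⟨d, hdC, h⟩)

/-- The pairs with `τ ∈ ⟨u v⟩`. -/
theorem pairs_tau_iff {u v : G} :
    (ConjIn M t u ∧ ConjIn M τ v ∧ τ ∈ zpowers (u * v)) ↔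
      (ConjIn (M ⊓ Cent τ) t u ∧ ConjIn (M ⊓ Cent τ) (t * τ) v) := by
  have hb := b.toBase
  constructor
  · rintro ⟨hu, hv, hmem⟩
    obtain ⟨hu2, hv2, -⟩ := b.pair_facts hu hv
    obtain ⟨j, -, -, hju, hjv, huniq⟩ := b.exists_half_power hu hv
    obtain rfl := huniq τ b.hτo hmem
    have huM : u ∈ M := by obtain ⟨a, ha, rfl⟩ := hu; exact mul_mem (mul_mem ha hb.tM) (inv_mem ha)
    have hvM : v ∈ M := by obtain ⟨a, ha, rfl⟩ := hv; exact mul_mem (mul_mem ha b.tauM) (inv_mem ha)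
    have huτ : u ≠ τ := fun e => b.hnot (e ▸ hu)
    have hvτ : v ≠ τ := by
      intro e
      rw [e] at hmem
      have hp : Pair u τ := ⟨hu2, b.hτo, hju.symm.eq, huτ⟩
      exact hp.mul_ne_right (eq_of_invol_zpowers hmem (mem_zpowers _) b.hτo hp.order_mul).symm
    refine ⟨(b.classify_cent huM hu2 huτ hju.symm).resolve_right fun h => ?_,
      (b.classify_cent hvM hv2 hvτ hjv.symm).resolve_left fun h => ?_⟩
    · exact b.hnot (hu.trans ((h.mono inf_le_left).symm.trans b.tau_ttau.symm))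
    · exact b.hnot ((h.mono inf_le_left).trans hv.symm)
  · rintro ⟨hu', hv'⟩
    have hu : ConjIn M t u := hu'.mono inf_le_left
    have hv : ConjIn M τ v := b.tau_ttau.trans (hv'.mono inf_le_left)
    refine ⟨hu, hv, ?_⟩
    obtain ⟨hu2, hv2, -⟩ := b.pair_facts hu hv
    obtain ⟨j, hj2, hjmem, hju, hjv, huniq⟩ := b.exists_half_power hu hv
    obtain ⟨c, hc, hcu⟩ := hu'.symm
    obtain ⟨e, he, hev⟩ := hv'
    have hfixc : c * τ * c⁻¹ = τ := by rw [mem_cent.1 hc.2, mul_inv_cancel_right]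
    have hfixe : e * τ * e⁻¹ = τ := by rw [mem_cent.1 he.2, mul_inv_cancel_right]
    have hτu : Commute τ u := by
      have h0 : u = c⁻¹ * t * c⁻¹⁻¹ := by rw [← hcu]; group
      have := commute_conj b.t_tau c⁻¹
      rw [show c⁻¹ * τ * c⁻¹⁻¹ = τ by conv_lhs => rw [← hfixc]
                                      group, ← h0] at this
      exact this.symm
    have hτv : Commute τ v := by
      have := commute_conj (b.t_tau.mul_left (Commute.refl τ)) e
      rw [hfixe, hev] at this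
      exact this.symm
    have hτj : Commute τ j := by
      obtain ⟨n, rfl⟩ := mem_zpowers_iff.1 hjmem
      exact (hτu.mul_right hτv).zpow_right n
    by_contra hne
    have hjne : j ≠ τ := fun h => hne (h ▸ hjmem)
    have h1 : Commute (c * j * c⁻¹) t := by
      have := commute_conj hju c
      rwa [hcu] at this
    have h2 : Commute (c * j * c⁻¹) τ := by
      have := commute_conj hτj.symm c
      rwa [hfixc] at this
    have hv'' : c * v * c⁻¹ = t * τ := by
      have h3 : Commute (c * v * c⁻¹) τ := by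
        have := commute_conj hτv.symm c
        rwa [hfixc] at this
      have h4 := commute_conj hjv.symm c
      have h5 : Commute (c * v * c⁻¹) t := by
        rcases b.hyp.mem_four_of_commute b.pair (orderOf_conj hj2 c) h1 h2 with h | h | h | h
        · exact absurd h (BSW.ne_one_of_order (orderOf_conj hj2 c))
        · exact h ▸ h4
        · exact absurd (conj_inj (h.trans hfixc.symm)) hjne
        · rw [h] at h4
          have := h4.mul_right h3
          rwa [mul_assoc t τ τ, sq_of_order b.hτo, mul_one] at this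
      rcases b.hyp.mem_four_of_commute b.pair (orderOf_conj hv2 c) h5 h3 with h | h | h | h
      · exact absurd h (BSW.ne_one_of_order (orderOf_conj hv2 c))
      · exact absurd (hv.trans ⟨c, hc.1, h⟩).symm b.hnot
      · exfalso
        have e1 : v = τ := conj_inj (h.trans hfixc.symm)
        have e2 : t * τ = τ := conj_inj (hev.trans (e1.trans hfixe.symm))
        exact BSW.ne_one_of_order hb.torder (mul_eq_right.1 e2)
      · exact h
    have huv : u * v = τ := by
      refine conj_inj (c := c) ?_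
      rw [hfixc, show c * (u * v) * c⁻¹ = (c * u * c⁻¹) * (c * v * c⁻¹) by group, hcu, hv'',
        ← mul_assoc, sq_of_order hb.torder, one_mul]
    exact hne (huv ▸ mem_zpowers _)

/-- The Thompson order formula in `M`. -/
theorem thompson :
    (Nat.card M : ℤ) * (Nat.card (centralizer ({t, τ} : Set G)) : ℤ) ^ 2 *
        Nat.card (centralizer ({t, σ * τ} : Set G)) =
      (Nat.card (M ⊓ Cent τ : Subgroup G) : ℤ) * (Nat.card (Cent t) : ℤ) ^ 2 *
          Nat.card (centralizer ({t, τ} : Set G)) +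
        (Nat.card (Cent t) : ℤ) * (Nat.card (M ⊓ Cent τ : Subgroup G) : ℤ) ^ 2 *
          Nat.card (centralizer ({t, σ * τ} : Set G)) := by
  have hb := b.toBase
  set T : M := ⟨t, hb.tM⟩ with hT
  set U : M := ⟨τ, b.tauM⟩ with hU
  have hTo : orderOf T = 2 := by rw [hT, Subgroup.orderOf_mk, hb.torder]
  have hUo : orderOf U = 2 := by rw [hU, Subgroup.orderOf_mk, b.hτo]
  have key := S0213.result T U hTo hUo (fun h => b.hnot (ConjIn.of_isConj h)) fun x hx => by
    rcases hb.classify x.2 (by rwa [Subgroup.orderOf_coe]) with h | h | h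
    · exact Or.inl (ConjIn.isConj (a := T) h)
    · exact Or.inr (ConjIn.isConj (a := U) h)
    · exact Or.inl (ConjIn.isConj (a := T) (b.hone.trans h))
  have hC : Nat.card (centralizer ({T} : Set M)) = Nat.card (Cent t) := card_cent_subtype T b.hCM
  have hC' : Nat.card (centralizer ({U} : Set M)) = Nat.card (M ⊓ Cent τ : Subgroup G) := by
    have e : centralizer ({U} : Set M) = (Cent τ).subgroupOf M := by
      ext x
      rw [mem_centralizer_singleton_iff, mem_subgroupOf, mem_cent, Subtype.ext_iff]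
      rfl
    rw [e, ← inf_subgroupOf_left, Nat.card_congr (subgroupOfEquivOfLe inf_le_left).toEquiv]
  have hzp : ∀ {x : G} (hx : x ∈ M) (y : M), (⟨x, hx⟩ : M) ∈ zpowers y ↔ x ∈ zpowers (y : G) := by
    intro x hx y
    rw [mem_zpowers_iff, mem_zpowers_iff]
    refine exists_congr fun n => ?_
    rw [Subtype.ext_iff, SubgroupClass.coe_zpow]
  have hcount : ∀ (w : G) (hw : w ∈ M) (X : Subgroup G) (x y : G), X ≤ M → x ∈ M → y ∈ M →
      (∀ u v : G, (ConjIn M t u ∧ ConjIn M τ v ∧ w ∈ zpowers (u * v)) ↔ ConjIn X x u ∧ ConjIn X y v) →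
      Nat.card {p : M × M // IsConj T p.1 ∧ IsConj U p.2 ∧ (⟨w, hw⟩ : M) ∈ zpowers (p.1 * p.2)} =
        Nat.card {u : G // ConjIn X x u} * Nat.card {v : G // ConjIn X y v} := by
    intro w hw X x y hX hx hy hiff
    rw [← Nat.card_prod]
    have hfwd : ∀ p : {p : M × M // IsConj T p.1 ∧ IsConj U p.2 ∧ (⟨w, hw⟩ : M) ∈ zpowers (p.1 * p.2)},
        ConjIn X x (p.1.1 : G) ∧ ConjIn X y (p.1.2 : G) := fun p =>
      (hiff _ _).1 ⟨ConjIn.of_isConj p.2.1, ConjIn.of_isConj p.2.2.1, (hzp hw _).1 p.2.2.2⟩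
    have hmemM : ∀ {z x : G}, x ∈ M → ConjIn X x z → z ∈ M := by
      rintro z x hx ⟨c, hc, rfl⟩
      exact mul_mem (mul_mem (hX hc) hx) (inv_mem (hX hc))
    refine Nat.card_congr
      { toFun := fun p => (⟨p.1.1, (hfwd p).1⟩, ⟨p.1.2, (hfwd p).2⟩)
        invFun := fun q => ⟨(⟨q.1, hmemM hx q.1.2⟩, ⟨q.2, hmemM hy q.2.2⟩), ?_⟩
        left_inv := fun p => rfl
        right_inv := fun q => rfl }
    obtain ⟨h1, h2, h3⟩ := (hiff _ _).2 ⟨q.1.2, q.2.2⟩
    exact ⟨ConjIn.isConj (a := T) h1, ConjIn.isConj (a := U) h2, (hzp hw _).2 h3⟩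
  rw [hC, hC', hcount t hb.tM (Cent t) (σ * τ) τ b.hCM (hb.hSM (mul_mem b.hσ b.hτ)) b.tauM
      (fun _ _ => b.pairs_t_iff),
    hcount τ b.tauM (M ⊓ Cent τ) t (t * τ) inf_le_left hb.tM (mul_mem hb.tM b.tauM)
      (fun _ _ => b.pairs_tau_iff)] at key
  have e1 := card_conjIn_mul (Cent t) (σ * τ)
  have e2 := card_conjIn_mul (Cent t) τ
  have e3 := card_conjIn_mul (M ⊓ Cent τ) t
  have e4 := card_conjIn_mul (M ⊓ Cent τ) (t * τ)
  have hM1 : M ⊓ Cent τ ⊓ Cent t = centralizer ({t, τ} : Set G) := by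
    rw [centralizer_pair_eq]
    ext z
    simp only [mem_inf]
    exact ⟨fun h => ⟨h.2, h.1.2⟩, fun h => ⟨⟨b.hCM h.1, h.2⟩, h.1⟩⟩
  have hM2 : M ⊓ Cent τ ⊓ Cent (t * τ) = centralizer ({t, τ} : Set G) := by
    rw [← hM1]
    ext z
    simp only [mem_inf, mem_cent]
    refine and_congr_right fun h => ⟨fun h' => ?_, fun h' => ?_⟩
    · have := (show Commute z (t * τ) from h').mul_right (show Commute z τ from h.2)
      rw [mul_assoc, sq_of_order b.hτo, mul_one] at this
      exact this.eq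
    · exact ((show Commute z t from h').mul_right (show Commute z τ from h.2)).eq
  rw [hM1] at e3
  rw [hM2] at e4
  rw [← centralizer_pair_eq] at e1 e2
  push_cast [key]
  set p := Nat.card (centralizer ({t, τ} : Set G))
  set q := Nat.card (centralizer ({t, σ * τ} : Set G))
  set C := Nat.card (Cent t)
  set C' := Nat.card (M ⊓ Cent τ : Subgroup G)
  set a := Nat.card {u : G // ConjIn (Cent t) (σ * τ) u}
  set b' := Nat.card {u : G // ConjIn (Cent t) τ u}
  set c := Nat.card {u : G // ConjIn (M ⊓ Cent τ) t u}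
  set d := Nat.card {u : G // ConjIn (M ⊓ Cent τ) (t * τ) u}
  have e1' : (a : ℤ) * q = C := by exact_mod_cast e1
  have e2' : (b' : ℤ) * p = C := by exact_mod_cast e2
  have e3' : (c : ℤ) * p = C' := by exact_mod_cast e3
  have e4' : (d : ℤ) * p = C' := by exact_mod_cast e4
  calc ((C' : ℤ) * ((a : ℤ) * b') + C * ((c : ℤ) * d)) * (p : ℤ) ^ 2 * q
      = C' * (a * q) * (b' * p) * p + C * (c * p) * (d * p) * q := by ring
    _ = (C' : ℤ) * (C : ℤ) ^ 2 * p + (C : ℤ) * (C' : ℤ) ^ 2 * q := by rw [e1', e2', e3', e4']; ring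

end Two

end Cfsg.Agent.GW.BigCentral
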